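import Groth.Agent.CycB.PushStalk
import Groth.Agent.Ega3B.FlatRestrict

/-!
# Flatness over the base of direct images along inducing morphisms, stalkwise

No quasi-coherence is needed.
-/

set_option autoImplicit false
universe u

open CategoryTheory CategoryTheory.Limits AlgebraicGeometry TopologicalSpace

namespace K239.PushFlat

open Groth.Agent Groth.Agent.CycB

variable {X Y Z : Scheme.{u}}

theorem flatAt_push_iff (i : X ⟶ Y) (hi : Topology.IsInducing i) (p : Y ⟶ Z) (M : X.Modules) (x : X) :
    FlatMod.IsFlatOverAt p ((Scheme.Modules.pushforward i).obj M) (i x) ↔ FlatMod.IsFlatOverAt (i ≫ p) M x := by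
  let _ := FlatMod.moduleStalkOver (i ≫ p) M x
  let _ := FlatMod.moduleStalkOver p ((Scheme.Modules.pushforward i).obj M) (i x)
  refine Ega3B.FlatRestrict.flat_iff_of_semilinear (R := Z.presheaf.stalk (p (i x)))
    (R' := Z.presheaf.stalk ((i ≫ p) x)) (RingEquiv.refl _)
    (AddEquiv.ofBijective (PushStalk.pushStalk i M x) (PushStalk.pushStalk_bijective i hi M x)) fun r m => ?_
  change PushStalk.pushStalk i M x ((p.stalkMap (i x)).hom r • m) =
    ((i ≫ p).stalkMap x).hom r • PushStalk.pushStalk i M x m
  have h1 : ((i ≫ p).stalkMap x).hom r = (i.stalkMap x).hom ((p.stalkMap (i x)).hom r) :=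
    congr($(Scheme.Hom.stalkMap_comp i p x) r)
  rw [h1]
  exact (PushStalk.pushStalk i M x).map_smulₛₗ _ m

theorem flatAt_push_of_not_mem (i : X ⟶ Y) (p : Y ⟶ Z) (M : X.Modules) (y : Y)
    (hy : y ∉ closure (Set.range i)) :
    FlatMod.IsFlatOverAt p ((Scheme.Modules.pushforward i).obj M) y := by
  have := PushStalk.subsingleton_stalk_push i M y hy
  let _ := FlatMod.moduleStalkOver p ((Scheme.Modules.pushforward i).obj M) y
  change Module.Flat (Z.presheaf.stalk (p.base y)) (((Scheme.Modules.pushforward i).obj M).presheaf.stalk y)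
  infer_instance

theorem isFlatOver_push_iff (i : X ⟶ Y) [IsClosedImmersion i] (p : Y ⟶ Z) (M : X.Modules) :
    FlatMod.IsFlatOver p ((Scheme.Modules.pushforward i).obj M) ↔ FlatMod.IsFlatOver (i ≫ p) M := by
  have hi : Topology.IsClosedEmbedding i := i.isClosedEmbedding
  constructor
  · intro h x
    exact (flatAt_push_iff i hi.isInducing p M x).1 (h (i x))
  · intro h y
    by_cases hy : y ∈ Set.range i
    · obtain ⟨x, rfl⟩ := hy
      exact (flatAt_push_iff i hi.isInducing p M x).2 (h x)
    · exact flatAt_push_of_not_mem i p M y (by rwa [hi.isClosed_range.closure_eq])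

end K239.PushFlat
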