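import Groth.Agent.Dcoh.FreeSec
import Groth.Prelude.Def_FlatMod2
import Mathlib.AlgebraicGeometry.Morphisms.Flat

/-!
# Flatness of the structure sheaf over the base
-/

set_option autoImplicit false
universe u
open CategoryTheory CategoryTheory.Limits AlgebraicGeometry

namespace K239.UnitFlat

open Groth.Agent

variable {X S : Scheme.{u}}

theorem isFlatOverAt_unit_iff (f : X ⟶ S) (x : X) :
    FlatMod.IsFlatOverAt f (Coh.structureModule X) x ↔ (f.stalkMap x).hom.Flat := by
  let a1 : Module (S.presheaf.stalk (f x)) (X.presheaf.stalk x) :=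
    Module.compHom (X.presheaf.stalk x) (f.stalkMap x).hom
  let a2 := FlatMod.moduleStalkOver f (Coh.structureModule X) x
  let e : X.presheaf.stalk x ≃ₗ[S.presheaf.stalk (f x)] (Coh.structureModule X).presheaf.stalk x :=
    { Dcoh.FreeSec.stalkUnit x with
      map_smul' := fun r m => (Dcoh.FreeSec.stalkUnit x).map_smul ((f.stalkMap x).hom r) m }
  constructor
  · intro h
    have h1 : Module.Flat (S.presheaf.stalk (f x)) ((Coh.structureModule X).presheaf.stalk x) := h
    exact Module.Flat.of_linearEquiv e
  · intro h
    have h1 : Module.Flat (S.presheaf.stalk (f x)) (X.presheaf.stalk x) := h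
    exact Module.Flat.of_linearEquiv e.symm

theorem isFlatOver_unit_iff (f : X ⟶ S) : FlatMod.IsFlatOver f (Coh.structureModule X) ↔ Flat f := by
  rw [Flat.iff_flat_stalkMap]
  exact forall_congr' fun x => isFlatOverAt_unit_iff f x

end K239.UnitFlat
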