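import Groth.Prelude.Def_DerSch
import Groth.Agent.Dcoh.StalkMod
import Groth.Agent.Flat2C.TorAmpRestr

/-!
# Stalkwise tor amplitude: basic dictionary

* `DerSch.stalkFunctor`, `DerSch.stalkOver f x` are exact.
* `at_iff_of_iso`: `DerSch.HasTorAmplitudeAt` only depends on the class in `D(O_X)`.
* `at_of_flat`: a complex placed in `[a, b]` whose terms are flat over the base at `x` has amplitude `[a, b]` at `x`.
* `flat_opcycles_of_at`: for a bounded above complex with flat terms, amplitude in `[a, b]` gives flatness of the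
  opcycles in degree `a`.
-/

set_option autoImplicit false
universe u
open CategoryTheory CategoryTheory.Limits AlgebraicGeometry
attribute [local instance] HasDerivedCategory.standard

namespace K239.StalkAmp

open Groth.Agent Groth.Agent.Dcoh

variable {X Y : Scheme.{u}}

/-- The frozen stalk functor is the library's one. -/
noncomputable def stalkIso (x : X) : DerSch.stalkFunctor X x ≅ StalkMod.stalkMod x :=
  NatIso.ofComponents (fun M => Iso.refl _) (fun φ => by
    ext m
    rfl)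

instance preservesFiniteLimits_stalkFunctor (x : X) : PreservesFiniteLimits (DerSch.stalkFunctor X x) :=
  preservesFiniteLimits_of_natIso (stalkIso x).symm

instance preservesFiniteColimits_stalkFunctor (x : X) : PreservesFiniteColimits (DerSch.stalkFunctor X x) :=
  preservesFiniteColimits_of_natIso (stalkIso x).symm

instance preservesFiniteLimits_stalkOver (f : X ⟶ Y) (x : X) : PreservesFiniteLimits (DerSch.stalkOver f x) := by
  have : PreservesFiniteLimits (ModuleCat.restrictScalars.{u} (f.stalkMap x).hom) := inferInstance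
  exact comp_preservesFiniteLimits _ _

instance preservesFiniteColimits_stalkOver (f : X ⟶ Y) (x : X) : PreservesFiniteColimits (DerSch.stalkOver f x) := by
  have : PreservesFiniteColimits (ModuleCat.restrictScalars.{u} (f.stalkMap x).hom) := inferInstance
  exact comp_preservesFiniteColimits _ _

instance additive_stalkOver (f : X ⟶ Y) (x : X) : (DerSch.stalkOver f x).Additive := inferInstance

theorem flat_stalkOver_iff (f : X ⟶ Y) (M : X.Modules) (x : X) :
    Module.Flat (Y.presheaf.stalk (f x)) ((DerSch.stalkOver f x).obj M) ↔ FlatMod.IsFlatOverAt f M x := Iff.rfl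

/-- The derived stalk functor. -/
noncomputable abbrev stalkD (f : X ⟶ Y) (x : X) : DCoh.D X ⥤ Dual.D (Y.presheaf.stalk (f x)) :=
  (DerSch.stalkOver f x).mapDerivedCategory

noncomputable def stalkDQ (f : X ⟶ Y) (x : X) (F : CochainComplex X.Modules ℤ) :
    (stalkD f x).obj (DCoh.toD X F) ≅ DRing.toD ((DerSch.stalkCxOver f x).obj F) :=
  (DerSch.stalkOver f x).mapDerivedCategoryFactors.app F

theorem hasTorAmplitudeIn_of_iso {A : Type u} [CommRing A] {a b : ℤ} {K L : Dual.D A} (e : K ≅ L)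
    (h : DRing.HasTorAmplitudeIn A a b K) : DRing.HasTorAmplitudeIn A a b L := by
  obtain ⟨E, h1, h2, ⟨h3⟩⟩ := h
  exact ⟨E, h1, h2, ⟨h3 ≪≫ e⟩⟩

theorem at_iff_stalkD (f : X ⟶ Y) (a b : ℤ) (F : CochainComplex X.Modules ℤ) (x : X) :
    DerSch.HasTorAmplitudeAt f a b F x ↔
      DRing.HasTorAmplitudeIn _ a b ((stalkD f x).obj (DCoh.toD X F)) :=
  ⟨fun h => hasTorAmplitudeIn_of_iso (stalkDQ f x F).symm h, fun h => hasTorAmplitudeIn_of_iso (stalkDQ f x F) h⟩

theorem at_of_iso (f : X ⟶ Y) {a b : ℤ} {F G : CochainComplex X.Modules ℤ} (e : DCoh.toD X F ≅ DCoh.toD X G) (x : X)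
    (h : DerSch.HasTorAmplitudeAt f a b F x) : DerSch.HasTorAmplitudeAt f a b G x := by
  rw [at_iff_stalkD] at h ⊢
  exact hasTorAmplitudeIn_of_iso ((stalkD f x).mapIso e) h

theorem at_mono (f : X ⟶ Y) {a b a' b' : ℤ} {F : CochainComplex X.Modules ℤ} (x : X) (ha : a' ≤ a) (hb : b ≤ b')
    (h : DerSch.HasTorAmplitudeAt f a b F x) : DerSch.HasTorAmplitudeAt f a' b' F x := by
  obtain ⟨E, h1, h2, h3⟩ := h
  exact ⟨E, fun i hi => h1 i (by omega), h2, h3⟩

theorem at_of_flat (f : X ⟶ Y) {a b : ℤ} {E : CochainComplex X.Modules ℤ} (h1 : DCoh.VanishesOutside E a b) (x : X)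
    (h2 : ∀ i, FlatMod.IsFlatOverAt f (E.X i) x) : DerSch.HasTorAmplitudeAt f a b E x :=
  ⟨(DerSch.stalkCxOver f x).obj E, fun i hi => (DerSch.stalkOver f x).map_isZero (h1 i hi),
    fun i => h2 i, ⟨Iso.refl _⟩⟩

/-- Exactness of the complex of stalks. -/
theorem exactAt_stalk_of_at (f : X ⟶ Y) {a b : ℤ} {F : CochainComplex X.Modules ℤ} {x : X}
    (h : DerSch.HasTorAmplitudeAt f a b F x) (i : ℤ) (hi : i < a ∨ b < i) :
    ((DerSch.stalkCxOver f x).obj F).ExactAt i := by
  obtain ⟨E, h1, -, ⟨e⟩⟩ := h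
  exact Flat2C.TorAmpRestr.exactAt_of_iso e.symm i (HomologicalComplex.ExactAt.of_isZero (h1 i hi))

theorem flat_opcycles_of_at (f : X ⟶ Y) {a b : ℤ} {P : CochainComplex X.Modules ℤ} {x : X} (b' : ℤ)
    (hP0 : ∀ i, b' < i → IsZero (P.X i)) (hP : ∀ i, FlatMod.IsFlatOverAt f (P.X i) x)
    (h : DerSch.HasTorAmplitudeAt f a b P x) : FlatMod.IsFlatOverAt f (P.opcycles a) x := by
  obtain ⟨E', h1, h2, ⟨e⟩⟩ := h
  let F := DerSch.stalkOver f x
  let P' := (F.mapHomologicalComplex (ComplexShape.up ℤ)).obj P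
  obtain ⟨h, hha⟩ : ∃ h : ℤ, h + 1 = a := ⟨a - 1, by omega⟩
  have hE : Module.Flat (Y.presheaf.stalk (f x)) (Flat2C.TorAmpCone.Cok E' h a) := by
    have : Module.Flat (Y.presheaf.stalk (f x)) (E'.X a) := h2 a
    have h0 : IsZero (E'.X h) := h1 h (Or.inl (by omega))
    have hs : Subsingleton (E'.X h) := ModuleCat.subsingleton_of_isZero h0
    have hr : LinearMap.range (E'.d h a).hom = ⊥ := by
      rw [LinearMap.range_eq_bot]
      ext x
      rw [Subsingleton.elim x 0, map_zero, map_zero]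
    exact Module.Flat.of_linearEquiv (Submodule.quotEquivOfEqBot _ hr)
  rw [← Flat2C.TorAmpRestr.flat_cok_iff_of_iso (max b b') P' E'
    (fun i hi => F.map_isZero (hP0 i (lt_of_le_of_lt (le_max_right _ _) hi)))
    (fun i hi => h1 i (Or.inr (lt_of_le_of_lt (le_max_left _ _) hi)))
    (fun i => hP i) (fun i => h2 i) e.symm hha] at hE
  obtain ⟨e1⟩ := Flat2C.TorAmpRestr.nonempty_opcycles_equiv P' hha
  have e2 : P'.opcycles a ≅ F.obj (P.opcycles a) := (P.sc a).mapOpcyclesIso F
  rw [← flat_stalkOver_iff]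
  exact Module.Flat.of_linearEquiv (e2.symm.toLinearEquiv ≪≫ₗ e1)

end K239.StalkAmp
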