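import Groth.Agent.KSix.K238.PushClosed
import Groth.Agent.KSix.K239.StalkAmp
import Groth.Agent.KSix.K239.PushFlat

/-!
# Stalkwise tor amplitude of termwise direct images along closed immersions
-/

set_option autoImplicit false
universe u
open CategoryTheory CategoryTheory.Limits AlgebraicGeometry
attribute [local instance] HasDerivedCategory.standard

namespace K239.AmpPush

open Groth.Agent K239.StalkAmp

variable {X Y Z : Scheme.{u}}

/-- the termwise direct image -/
noncomputable abbrev pushC (i : X ⟶ Y) (F : CochainComplex X.Modules ℤ) : CochainComplex Y.Modules ℤ :=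
  ((Scheme.Modules.pushforward i).mapHomologicalComplex (ComplexShape.up ℤ)).obj F

theorem at_push_iff (i : X ⟶ Y) (hi : Topology.IsInducing i) (g : Y ⟶ Z) (a b : ℤ)
    (F : CochainComplex X.Modules ℤ) (x : X) :
    DerSch.HasTorAmplitudeAt g a b (pushC i F) (i x) ↔ DerSch.HasTorAmplitudeAt (i ≫ g) a b F x := by
  rw [K238.StalkD.hasTorAmplitudeAt_iff, K238.StalkD.hasTorAmplitudeAt_iff]
  exact K238.StalkD.torAmp_iff_of_iso (K238.PushClosed.pushStalkOverD i hi g x F)

theorem at_push_of_not_mem (i : X ⟶ Y) (g : Y ⟶ Z) (a b : ℤ) (F : CochainComplex X.Modules ℤ) (y : Y)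
    (hy : y ∉ closure (Set.range i)) : DerSch.HasTorAmplitudeAt g a b (pushC i F) y := by
  have h0 : ∀ j, IsZero ((DerSch.stalkOver g y).obj ((pushC i F).X j)) := fun j => by
    have := CycB.PushStalk.subsingleton_stalk_push i (F.X j) y hy
    have h1 : Subsingleton ((DerSch.stalkOver g y).obj ((pushC i F).X j)) := this
    exact ModuleCat.isZero_of_subsingleton _
  refine ⟨(DerSch.stalkCxOver g y).obj (pushC i F), fun j _ => h0 j, fun j => ?_, ⟨Iso.refl _⟩⟩
  exact PushFlat.flatAt_push_of_not_mem i g (F.X j) y hy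

theorem hasTorAmplitude_push_iff (i : X ⟶ Y) [IsClosedImmersion i] (g : Y ⟶ Z) (a b : ℤ)
    (F : CochainComplex X.Modules ℤ) :
    DerSch.HasTorAmplitude g a b (pushC i F) ↔ DerSch.HasTorAmplitude (i ≫ g) a b F := by
  have hi : Topology.IsClosedEmbedding i := i.isClosedEmbedding
  constructor
  · exact fun h x => (at_push_iff i hi.isInducing g a b F x).1 (h (i x))
  · intro h y
    by_cases hy : y ∈ Set.range i
    · obtain ⟨x, rfl⟩ := hy
      exact (at_push_iff i hi.isInducing g a b F x).2 (h x)
    · exact at_push_of_not_mem i g a b F y (by rwa [hi.isClosed_range.closure_eq])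

theorem locFiniteTorAmplitude_push_iff (i : X ⟶ Y) [IsClosedImmersion i] (g : Y ⟶ Z)
    (F : CochainComplex X.Modules ℤ) :
    DerSch.LocFiniteTorAmplitude g (pushC i F) ↔ DerSch.LocFiniteTorAmplitude (i ≫ g) F := by
  have hi : Topology.IsClosedEmbedding i := i.isClosedEmbedding
  constructor
  · intro h x
    obtain ⟨V, a, b, hx, h1⟩ := h (i x)
    exact ⟨i ⁻¹ᵁ V, a, b, hx, fun x' hx' => (at_push_iff i hi.isInducing g a b F x').1 (h1 _ hx')⟩
  · intro h y
    by_cases hy : y ∈ Set.range i
    · obtain ⟨x, rfl⟩ := hy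
      obtain ⟨V, a, b, hx, h1⟩ := h x
      obtain ⟨W, hW, hWV⟩ := hi.isInducing.isOpen_iff.1 V.2
      refine ⟨⟨W, hW⟩, a, b, ?_, fun y' hy' => ?_⟩
      · have : x ∈ i ⁻¹' W := by rw [hWV]; exact hx
        exact this
      · by_cases hy'' : y' ∈ Set.range i
        · obtain ⟨x', rfl⟩ := hy''
          refine (at_push_iff i hi.isInducing g a b F x').2 (h1 x' ?_)
          have : x' ∈ i ⁻¹' W := hy'
          rw [hWV] at this
          exact this
        · exact at_push_of_not_mem i g a b F y' (by rwa [hi.isClosed_range.closure_eq])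
    · let V : Y.Opens := ⟨(Set.range i)ᶜ, hi.isClosed_range.isOpen_compl⟩
      refine ⟨V, 0, 0, hy, fun y' hy' => at_push_of_not_mem i g 0 0 F y' ?_⟩
      rw [hi.isClosed_range.closure_eq]
      exact hy'

end K239.AmpPush
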