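import Groth.Agent.KSix.K239.AmpOpen
import Groth.Agent.KSix.K239.AmpPush

/-!
# Openness of relative perfect amplitude

* `exists_nhd`: `(a-1)`-pseudo-coherence relative to `f`, cohomology in `[a, b]` and tor amplitude in `[a, b]` at one
  point give perfect amplitude in `[a, b]` relative to `f` near the point.
* `hasPerfAmplitudeRel_opensRange`: from open immersions to open subschemes.
-/

set_option autoImplicit false
universe u
open CategoryTheory CategoryTheory.Limits AlgebraicGeometry
attribute [local instance] HasDerivedCategory.standard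

namespace K239.AmpNhd

open Groth.Agent Groth.Agent.PerfA Groth.Agent.PerfA.Restrict Groth.Agent.PerfC.PcLocal
open Groth.Agent.PerfC.ClosedImmPc K240.PushTest K240.RelData K240.RelChart K240.RelBasic
open K239.StalkAmp K239.AmpPush

variable {X Y : Scheme.{u}}

/-- the termwise restriction -/
noncomputable abbrev resC {U : Scheme.{u}} (j : U ⟶ X) [IsOpenImmersion j] (F : CochainComplex X.Modules ℤ) :
    CochainComplex U.Modules ℤ :=
  ((Scheme.Modules.restrictFunctor j).mapHomologicalComplex (ComplexShape.up ℤ)).obj F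

/-- the test object of a complex -/
noncomputable def testCxIso {f : X ⟶ Y} (D : Datum f) (F : CochainComplex X.Modules ℤ) :
    (pushD D.i).obj ((restrictD D.j).obj (DCoh.toD X F)) ≅ DCoh.toD D.P (pushC D.i (resC D.j F)) :=
  (pushD D.i).mapIso (restrictDQ D.j F) ≪≫ (Scheme.Modules.pushforward D.i).mapDerivedCategoryFactors.app _

theorem at_datum_iff {f : X ⟶ Y} (D : Datum f) (F : CochainComplex X.Modules ℤ) (a b : ℤ) (w : D.W) :
    DerSch.HasTorAmplitudeAt D.p a b (pushC D.i (resC D.j F)) (D.i w) ↔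
      DerSch.HasTorAmplitudeAt f a b F (D.j w) := by
  rw [at_push_iff D.i D.i.isClosedEmbedding.isInducing, D.w]
  exact K254.StalkTor.hasTorAmplitudeAt_restrict_iff f D.j F a b w

theorem exists_nhd (f : X ⟶ Y) [LocallyOfFiniteType f] (F : CochainComplex X.Modules ℤ) (a b : ℤ) (x : X)
    (hpc : DerSch.IsPseudoCoherentRel f (a - 1) (DCoh.toD X F))
    (hz : ∀ i, i < a ∨ b < i → IsZero (DCoh.HD (DCoh.toD X F) i)) (hat : DerSch.HasTorAmplitudeAt f a b F x) :
    ∃ (W : Scheme.{u}) (v : W ⟶ X) (_ : IsOpenImmersion v) (w : W), v w = x ∧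
      (∀ m, DerSch.IsPseudoCoherentRel (v ≫ f) m ((restrictD v).obj (DCoh.toD X F))) ∧
      ∀ w' : W, DerSch.HasTorAmplitudeAt f a b F (v w') := by
  obtain ⟨D, w, hw, -, -⟩ := exists_datum f x ⊤ trivial
  let G := pushC D.i (resC D.j F)
  have h1 : DCoh.IsPseudoCoherentD (a - 1) (DCoh.toD D.P G) :=
    pc_of_iso (testCxIso D F) (test_of_isPseudoCoherentRel hpc D)
  have h2 : ∀ i, i < a ∨ b < i → IsZero (DCoh.HD (DCoh.toD D.P G) i) := fun i hi => by
    have e1 := (DerivedCategory.homologyFunctor _ i).mapIso (testCxIso D F)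
    refine IsZero.of_iso ?_ e1.symm
    refine IsZero.of_iso ?_ (pushHD D.i _ i)
    refine (Scheme.Modules.pushforward D.i).map_isZero ?_
    exact ((Scheme.Modules.restrictFunctor D.j).map_isZero (hz i hi)).of_iso
      (Dcoh.LocalD.HDRestrict D.j (DCoh.toD X F) i)
  have h3 : DerSch.HasTorAmplitudeAt D.p a b G (D.i w) := by
    rw [at_datum_iff, hw]
    exact hat
  obtain ⟨O, u, hu, o, ho, hpcO, hatO⟩ := AmpOpen.exists_open D.p G a b (D.i w) h1 h2 h3
  have sq : IsPullback (pullback.fst D.i u) (pullback.snd D.i u) D.i u := IsPullback.of_hasPullback D.i u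
  obtain ⟨w₀, hw₀, -⟩ := Scheme.exists_preimage_of_isPullback sq w o ho.symm
  have hc : IsClosedImmersion (pullback.snd D.i u) := closed_of_isPullback sq
  have hcom : pullback.snd D.i u ≫ u ≫ D.p = (pullback.fst D.i u ≫ D.j) ≫ f := by
    rw [← Category.assoc, ← sq.w, Category.assoc, Category.assoc, D.w]
  refine ⟨_, pullback.fst D.i u ≫ D.j, inferInstance, w₀, ?_, fun m => ?_, fun w' => ?_⟩
  · rw [Scheme.Hom.comp_apply, hw₀, hw]
  · rw [← isPseudoCoherentRel_congr hcom, isPseudoCoherentRel_closed_flat_iff]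
    have e : (pushD (pullback.snd D.i u)).obj ((restrictD (pullback.fst D.i u ≫ D.j)).obj (DCoh.toD X F)) ≅
        (restrictD u).obj (DCoh.toD D.P G) :=
      (pushD (pullback.snd D.i u)).mapIso ((restrictDComp (pullback.fst D.i u) D.j).symm.app _) ≪≫
        (pushDRestrictIso sq).symm.app _ ≪≫ (restrictD u).mapIso (testCxIso D F)
    exact pc_of_iso e.symm (hpcO m)
  · have h4 := hatO (pullback.snd D.i u w')
    have h5 : u (pullback.snd D.i u w') = D.i (pullback.fst D.i u w') := by
      rw [← Scheme.Hom.comp_apply, ← sq.w, Scheme.Hom.comp_apply]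
    rw [h5, at_datum_iff] at h4
    rwa [Scheme.Hom.comp_apply]

theorem hasPerfAmplitudeRel_opensRange (f : X ⟶ Y) (F : CochainComplex X.Modules ℤ) (a b : ℤ)
    {W : Scheme.{u}} (v : W ⟶ X) [IsOpenImmersion v]
    (h1 : ∀ m, DerSch.IsPseudoCoherentRel (v ≫ f) m ((restrictD v).obj (DCoh.toD X F)))
    (h2 : ∀ w' : W, DerSch.HasTorAmplitudeAt f a b F (v w')) :
    DerSch.HasPerfAmplitudeRel (v.opensRange.ι ≫ f) a b ((DCoh.restrictCx v.opensRange).obj F) := by
  have w : v.isoOpensRange.inv ≫ v = v.opensRange.ι := by simp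
  refine ⟨fun m => ?_, fun u' => ?_⟩
  · have h3 := isPseudoCoherentRel_restrict v.isoOpensRange.inv (h1 m)
    rw [← Category.assoc, isPseudoCoherentRel_congr (congrArg (· ≫ f) w)] at h3
    exact isPseudoCoherentRel_of_iso ((restrictDComp v.isoOpensRange.inv v).app _ ≪≫
      (restrictDCongr w).app _ ≪≫ restrictDQ _ F) h3
  · refine (K254.StalkTor.hasTorAmplitudeAt_restrict_iff f v.opensRange.ι F a b u').2 ?_
    obtain ⟨w', hw'⟩ := u'.2
    have h3 := h2 w'
    rw [hw'] at h3
    exact h3

end K239.AmpNhd
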