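import Groth.Agent.KSix.K239.StalkAmp
import Groth.Agent.FlatMor.K254.StalkTor
import Groth.Agent.PerfC.RelAmp
import Groth.Agent.PerfC.RelFlat
import Groth.Agent.Dcoh.BddCx
import Groth.Agent.Dcoh.TorAmp
import Groth.Agent.Models2.FlatIso
import Groth.Agent.PerfA.Restrict

/-!
# Stalkwise tor amplitude and complexes of modules flat over the base

For `f : X ⟶ Y` flat:

* `hasTorAmplitude_iff`: stalkwise tor amplitude in `[a, b]` relative to `f` is the same as being represented by a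
  complex of modules flat over `Y` placed in `[a, b]`.
* `locFiniteTorAmplitude_iff`: the local version.
-/

set_option autoImplicit false
universe u
open CategoryTheory CategoryTheory.Limits AlgebraicGeometry
attribute [local instance] HasDerivedCategory.standard

namespace K239.AmpTrunc

open Groth.Agent K239.StalkAmp

variable {X Y : Scheme.{u}}

theorem isZero_homology_of_stalk (f : X ⟶ Y) (F : CochainComplex X.Modules ℤ) (i : ℤ)
    (h : ∀ x : X, ((DerSch.stalkCxOver f x).obj F).ExactAt i) : IsZero (F.homology i) := by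
  rw [PerfB.FlatPull.isZero_iff_subsingleton]
  intro x
  have h1 := h x
  rw [HomologicalComplex.exactAt_iff_isZero_homology] at h1
  have e : ((DerSch.stalkCxOver f x).obj F).homology i ≅ (DerSch.stalkOver f x).obj (F.homology i) :=
    (F.sc i).mapHomologyIso (DerSch.stalkOver f x)
  exact ModuleCat.subsingleton_of_isZero (h1.of_iso e.symm)

theorem isZero_HD_of_hasTorAmplitude (f : X ⟶ Y) {a b : ℤ} {F : CochainComplex X.Modules ℤ}
    (h : DerSch.HasTorAmplitude f a b F) (i : ℤ) (hi : i < a ∨ b < i) : IsZero (DCoh.HD (DCoh.toD X F) i) :=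
  (isZero_homology_of_stalk f F i fun x => exactAt_stalk_of_at f (h x) i hi).of_iso
    ((DerivedCategory.homologyFunctorFactors X.Modules i).app F)

theorem hasRelFlatAmplitudeIn_of_hasTorAmplitude (f : X ⟶ Y) [Flat f] {a b : ℤ}
    {F : CochainComplex X.Modules ℤ} (h : DerSch.HasTorAmplitude f a b F) :
    DCoh.HasRelFlatAmplitudeIn f a b (DCoh.toD X F) := by
  obtain ⟨P, hP, hPf, ⟨e⟩⟩ := Dcoh.TorAmp.exists_flat_rep (DCoh.toD X F) b
    fun i hi => isZero_HD_of_hasTorAmplitude f h i (Or.inr hi)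
  have hP0 : ∀ i, b < i → IsZero (P.X i) := (CochainComplex.isStrictlyLE_iff _ _).1 hP
  have hPf' : ∀ i, FlatMod.IsFlatOver f (P.X i) := fun i => PerfC.RelFlat.isFlatOver_of_isFlat f (hPf i)
  have hop : FlatMod.IsFlatOver f (P.opcycles a) := fun x =>
    flat_opcycles_of_at f b hP0 (fun i => hPf' i x) (at_of_iso f e.symm x (h x))
  obtain ⟨e'⟩ := Dcoh.BddCx.nonempty_iso_truncGE P (DCoh.toD X F) a
    (fun i hi => isZero_HD_of_hasTorAmplitude f h i (Or.inl hi)) e.hom (fun i _ => inferInstance)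
  let Pr : ObjectProperty X.Modules := fun M => FlatMod.IsFlatOver f M
  have : Pr.IsClosedUnderIsomorphisms := ⟨fun e h => Models2.FlatIso.isFlatOver_of_iso f e h⟩
  refine ⟨P.truncGE a, ?_, ?_, ⟨e'.symm⟩⟩
  · rintro i (hi | hi)
    · exact (P.truncGE a).isZero_of_isStrictlyGE a i hi
    · exact Dcoh.BddCx.truncGE_isZero_of_lt P a b hP0 i hi
  · exact Dcoh.BddCx.prop_truncGE_X (P := Pr) (fun M hM => PerfC.RelFlat.isFlatOver_of_isZero f hM) P a hop
      fun i _ => hPf' i

theorem hasTorAmplitude_of_hasRelFlatAmplitudeIn (f : X ⟶ Y) {a b : ℤ} {F : CochainComplex X.Modules ℤ}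
    (h : DCoh.HasRelFlatAmplitudeIn f a b (DCoh.toD X F)) : DerSch.HasTorAmplitude f a b F := by
  obtain ⟨E, h1, h2, ⟨e⟩⟩ := h
  exact fun x => at_of_iso f e x (at_of_flat f h1 x fun i => h2 i x)

theorem hasTorAmplitude_iff (f : X ⟶ Y) [Flat f] (a b : ℤ) (F : CochainComplex X.Modules ℤ) :
    DerSch.HasTorAmplitude f a b F ↔ DCoh.HasRelFlatAmplitudeIn f a b (DCoh.toD X F) :=
  ⟨hasRelFlatAmplitudeIn_of_hasTorAmplitude f, hasTorAmplitude_of_hasRelFlatAmplitudeIn f⟩

theorem locFiniteTorAmplitude_iff (f : X ⟶ Y) [Flat f] (F : CochainComplex X.Modules ℤ) :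
    DerSch.LocFiniteTorAmplitude f F ↔ DCoh.LocHasFiniteRelTorDim f (DCoh.toD X F) := by
  constructor
  · intro h
    rw [PerfC.RelAmp.locHasFiniteRelTorDim_iff]
    intro x
    obtain ⟨V, a, b, hx, h1⟩ := h x
    refine ⟨V, a, b, hx, ?_⟩
    have h2 : DerSch.HasTorAmplitude (V.ι ≫ f) a b
        (((Scheme.Modules.restrictFunctor V.ι).mapHomologicalComplex (ComplexShape.up ℤ)).obj F) := fun v =>
      (K254.StalkTor.hasTorAmplitudeAt_restrict_iff f V.ι F a b v).2 (h1 _ v.2)
    obtain ⟨E, e1, e2, ⟨e3⟩⟩ := hasRelFlatAmplitudeIn_of_hasTorAmplitude (V.ι ≫ f) h2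
    exact ⟨E, e1, e2, ⟨e3 ≪≫ (PerfA.Restrict.restrictDQ V.ι F).symm⟩⟩
  · intro h
    exact K254.StalkTor.locFiniteTorAmplitudeD_of_locHasFiniteRelTorDim f h F ⟨Iso.refl _⟩

end K239.AmpTrunc
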