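import Groth.Agent.KSix.K239.RelFP
import Groth.Agent.PerfC.PcShift
import Groth.Agent.PerfA.Devissage
import Groth.Agent.CalgB.DerTri
import Groth.Agent.LoccohB.Devissage

/-!
# Relative pseudo-coherence: shifts, termwise and cohomological criteria

* `rel_of_isLE`: `K` in `D^{≤ m-1}` is `m`-pseudo-coherent relative to `f`.
* `rel_shift_iff`, `rel_single_iff`.
* `rel_of_termwise`: `F` bounded above with `F^i` `(m-i)`-pseudo-coherent relative to `f`.
* `rel_of_homology`: `K` bounded above with `H^i(K)` `(m-i)`-pseudo-coherent relative to `f`.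
-/

set_option autoImplicit false
universe u

open AlgebraicGeometry CategoryTheory CategoryTheory.Limits CategoryTheory.Pretriangulated
open Groth.Agent Groth.Agent.PerfA Groth.Agent.PerfA.Restrict Groth.Agent.PerfC.PcLocal
open Groth.Agent.PerfC.ClosedImmPc K240.PushTest K240.RelData K240.RelChart K240.RelBasic K239.RelFP

attribute [local instance] HasDerivedCategory.standard

namespace K239.RelTerm

variable {X Y : Scheme.{u}} {f : X ⟶ Y}

theorem rel_of_isLE [LocallyOfFiniteType f] {m : ℤ} (K : DCoh.D X) (hK : ∀ i : ℤ, m ≤ i → IsZero (DCoh.HD K i)) :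
    DerSch.IsPseudoCoherentRel f m K := by
  rw [isPseudoCoherentRel_iff_forall]
  intro D
  have h1 : K.IsLE (m - 1) := (DerivedCategory.isLE_iff _ _).2 fun i hi => hK i (by omega)
  have h2 : ((restrictD D.j).obj K).IsLE (m - 1) := ExactD.isLE_map _ _ _
  have h3 := isLE_pushD D.i _ (m - 1) h2
  exact pc_of_vanish fun i hi => (DerivedCategory.isLE_iff _ _).1 h3 i (by omega)

theorem rel_of_isZero [LocallyOfFiniteType f] {m : ℤ} (K : DCoh.D X) (hK : IsZero K) :
    DerSch.IsPseudoCoherentRel f m K :=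
  rel_of_isLE K fun i _ => (DerivedCategory.homologyFunctor X.Modules i).map_isZero hK

theorem rel_shift {m n a : ℤ} (hmn : a + n = m) {K : DCoh.D X}
    (h : DerSch.IsPseudoCoherentRel f m K) : DerSch.IsPseudoCoherentRel f n (K⟦a⟧) := by
  have := h.1
  rw [isPseudoCoherentRel_iff_forall] at h ⊢
  intro D
  exact pc_of_iso ((pushD D.i).mapIso (((restrictD D.j).commShiftIso a).app K) ≪≫
    ((pushD D.i).commShiftIso a).app _).symm (PerfC.PcShift.pc_shift hmn (h D))

theorem rel_shift_iff {m n a : ℤ} (hmn : a + n = m) {K : DCoh.D X} :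
    DerSch.IsPseudoCoherentRel f n (K⟦a⟧) ↔ DerSch.IsPseudoCoherentRel f m K :=
  ⟨fun h => isPseudoCoherentRel_of_iso (shiftShiftNeg K a) (rel_shift (a := -a) (m := n) (by lia) h),
    rel_shift hmn⟩

theorem rel_single_iff (M : X.Modules) {m n p : ℤ} (h : n + p = m) :
    DerSch.IsPseudoCoherentRel f m ((DerivedCategory.singleFunctor X.Modules p).obj M) ↔
      DerSch.IsPseudoCoherentRel f n (DCoh.inD X M) := by
  rw [← rel_shift_iff (m := n) (n := m) (a := -p) (by lia)]
  exact ⟨isPseudoCoherentRel_of_iso ((PerfC.PcShift.singleShift p).app M).symm,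
    isPseudoCoherentRel_of_iso ((PerfC.PcShift.singleShift p).app M)⟩

/-- Termwise criterion. -/
theorem rel_of_termwise [LocallyOfFiniteType f] (K : CochainComplex X.Modules ℤ) (b m : ℤ)
    (hb : ∀ i, b < i → IsZero (K.X i))
    (h : ∀ i, m ≤ i → DerSch.IsPseudoCoherentRel f (m - i) (DCoh.inD X (K.X i))) :
    DerSch.IsPseudoCoherentRel f m (DCoh.toD X K) := by
  obtain ⟨N, β, γ, hΔ⟩ := distinguished_cocone_triangle (DerivedCategory.Q.map (CalgB.DerTri.sgeHom K m))
  have hN : N.IsLE (m - 1) := by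
    refine (CalgB.DerTri.isLE_obj₃_iff hΔ m (m - 1) (by omega)).2 ⟨fun i hi => ?_, ?_⟩
    · exact (CalgB.DerTri.isIso_homologyFunctor_map_Q_iff (CalgB.DerTri.sgeHom K m) i).2
        (CalgB.DerTri.quasiIsoAt_sgeHom K m i hi)
    · exact (CalgB.DerTri.epi_homologyFunctor_map_Q_iff (CalgB.DerTri.sgeHom K m) m).2
        (CalgB.DerTri.epi_homologyMap_sgeHom K m)
  refine isPseudoCoherentRel_obj₂ m _ hΔ ?_ (rel_of_isLE _ fun i hi => (DerivedCategory.isLE_iff _ _).1 hN i (by omega))
  refine PerfA.Devissage.devissage (fun L => DerSch.IsPseudoCoherentRel f m L)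
    (fun e h => isPseudoCoherentRel_of_iso e h)
    (fun T hT h1 h3 => isPseudoCoherentRel_obj₂ m T hT h1 h3)
    (fun L hL => rel_of_isZero L hL) _ m b ?_ ?_
  · rintro i (hi | hi)
    · exact CalgB.DerTri.sge_isZero K m i hi
    · by_cases h' : m ≤ i
      · exact IsZero.of_iso (hb i hi) (CalgB.DerTri.sgeXIso K m i h')
      · exact CalgB.DerTri.sge_isZero K m i (by omega)
  · intro i hi _
    refine isPseudoCoherentRel_of_iso ((DerivedCategory.singleFunctor X.Modules i).mapIso
      (CalgB.DerTri.sgeXIso K m i hi).symm) ?_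
    exact (rel_single_iff (K.X i) (n := m - i) (by omega)).2 (h i hi)

/-- Cohomological criterion. -/
theorem rel_of_homology [LocallyOfFiniteType f] (K : DCoh.D X) (b m : ℤ) [hb : K.IsLE b]
    (h : ∀ i, m ≤ i → DerSch.IsPseudoCoherentRel f (m - i) (DCoh.inD X (DCoh.HD K i))) :
    DerSch.IsPseudoCoherentRel f m K := by
  obtain ⟨T, hT, rfl, h1, h3, hi1, hi3⟩ := LoccohB.Devissage.exists_trunc K (m - 1) m (by omega)
  refine isPseudoCoherentRel_obj₂ m _ hT (rel_of_isLE _ fun i hi => (DerivedCategory.isLE_iff _ _).1 h1 i (by omega)) ?_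
  rcases lt_or_ge b m with hbm | hbm
  · refine rel_of_isLE _ fun i hi => ?_
    have := hi3 i (by omega)
    exact (T.obj₂.isZero_of_isLE b i (by omega)).of_iso
      (asIso ((DerivedCategory.homologyFunctor _ i).map T.mor₂)).symm
  have hLE : T.obj₃.IsLE b := by
    rw [DerivedCategory.isLE_iff]
    intro i hi
    have := hi3 i (by omega)
    exact (T.obj₂.isZero_of_isLE b i hi).of_iso
      (asIso ((DerivedCategory.homologyFunctor _ i).map T.mor₂)).symm
  let P : ObjectProperty (DCoh.D X) := fun L => DerSch.IsPseudoCoherentRel f m L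
  have hP : P.IsClosedUnderIsomorphisms := ⟨fun e h => isPseudoCoherentRel_of_iso e h⟩
  refine LoccohB.Devissage.devissage P (fun L hL => rel_of_isZero L hL)
    (fun T hT h1 h3 => isPseudoCoherentRel_obj₂ m T hT h1 h3) T.obj₃ m b (fun i => ?_)
  rcases lt_or_ge i m with hi | hi
  · exact rel_of_isZero _ ((DerivedCategory.singleFunctor X.Modules i).map_isZero (T.obj₃.isZero_of_isGE m i hi))
  · have := hi3 i hi
    refine isPseudoCoherentRel_of_iso ((DerivedCategory.singleFunctor X.Modules i).mapIso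
      (asIso ((DerivedCategory.homologyFunctor _ i).map T.mor₂))) ?_
    exact (rel_single_iff _ (n := m - i) (by omega)).2 (h i hi)

end K239.RelTerm
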