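import Groth.Agent.KSix.K239.AmpRing
import Groth.Agent.KSix.K239.AmpTrunc
import Groth.Agent.KSix.K239.RelTerm
import Groth.Agent.PerfC.RelPerfPt

/-!
# Openness of relative perfection, from one point

`exists_open`: `f : V ⟶ S` flat and locally of finite presentation, `G` a complex on `V` with cohomology in `[a, b]`,
`(a-1)`-pseudo-coherent, and of tor amplitude in `[a, b]` over `S` at the point `y`.  Then on an open neighbourhood
of `y` the complex is pseudo-coherent and of tor amplitude in `[a, b]` over `S` at every point.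
-/

set_option autoImplicit false
universe u
open CategoryTheory CategoryTheory.Limits AlgebraicGeometry
attribute [local instance] HasDerivedCategory.standard

namespace K239.AmpOpen

open Groth.Agent Groth.Agent.PerfA Groth.Agent.PerfA.Restrict Groth.Agent.PerfC.PcLocal K239.StalkAmp
open K239.RelTerm K240.RelBasic K239.AmpTrunc

variable {V S : Scheme.{u}}

theorem at_upper (f : V ⟶ S) {a b b' : ℤ} {F : CochainComplex V.Modules ℤ} {x : V}
    (h : DerSch.HasTorAmplitudeAt f a b' F x) (hF : ∀ i, b < i → IsZero (DCoh.HD (DCoh.toD V F) i)) :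
    DerSch.HasTorAmplitudeAt f a b F x := by
  refine K226.TorTri.torAmp_of_subsingleton_HD h fun i hi => ?_
  have h1 : IsZero (F.homology i) := (hF i hi).of_iso
    ((DerivedCategory.homologyFunctorFactors V.Modules i).app F).symm
  have e : ((DerSch.stalkCxOver f x).obj F).homology i ≅ (DerSch.stalkOver f x).obj (F.homology i) :=
    (F.sc i).mapHomologyIso (DerSch.stalkOver f x)
  have h2 : IsZero (((DerSch.stalkCxOver f x).obj F).homology i) :=
    ((DerSch.stalkOver f x).map_isZero h1).of_iso e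
  exact ModuleCat.subsingleton_of_isZero
    (h2.of_iso ((DerivedCategory.homologyFunctorFactors _ i).app _))

theorem exists_open (f : V ⟶ S) [Flat f] [LocallyOfFinitePresentation f] (G : CochainComplex V.Modules ℤ)
    (a b : ℤ) (y : V) (hpc : DCoh.IsPseudoCoherentD (a - 1) (DCoh.toD V G))
    (hG : ∀ i, i < a ∨ b < i → IsZero (DCoh.HD (DCoh.toD V G) i))
    (hy : DerSch.HasTorAmplitudeAt f a b G y) :
    ∃ (O : Scheme.{u}) (u : O ⟶ V) (_ : IsOpenImmersion u) (o : O), u o = y ∧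
      (∀ m, DCoh.IsPseudoCoherentD m ((restrictD u).obj (DCoh.toD V G))) ∧
      ∀ o' : O, DerSch.HasTorAmplitudeAt f a b G (u o') := by
  obtain ⟨N, hyN, E, α, ⟨⟨a', B, hab⟩, hE⟩, h1, h2⟩ := (pc_iff _ _).1 hpc y
  have hz : ∀ i, i < a → IsZero (DCoh.HD ((restrictD N.ι).obj (DCoh.toD V G)) i) := fun i hi =>
    ((Scheme.Modules.restrictFunctor N.ι).map_isZero (hG i (Or.inl hi))).of_iso
      (Dcoh.LocalD.HDRestrict N.ι (DCoh.toD V G) i)
  obtain ⟨e⟩ := Dcoh.BddCx.nonempty_iso_truncGE E _ a hz α (fun i hi => h1 i (by omega))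
  set T := E.truncGE a with hT
  have hTz : ∀ i, i < a ∨ B < i → IsZero (T.X i) := by
    rintro i (hi | hi)
    · exact T.isZero_of_isStrictlyGE a i hi
    · exact Dcoh.BddCx.truncGE_isZero_of_lt E a B (fun i hi => hab i (Or.inr hi)) i hi
  have hTfp : ∀ i, CohB1.IsFP (T.X i) := by
    let Pr : ObjectProperty (N : Scheme.{u}).Modules := fun M => CohB1.IsFP M
    have hPr : Pr.IsClosedUnderIsomorphisms := ⟨fun e h => PerfC.FPSections.isFP_of_iso e h⟩
    exact Dcoh.BddCx.prop_truncGE_X (P := Pr)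
      (fun M hM => Desc.FinLocFreeSections.isFP_of_isFinLocFree (isFinLocFree_of_isZero hM)) E a
      (PerfC.RelPerfPt.isFP_opcycles E hE a) (fun i _ => Desc.FinLocFreeSections.isFP_of_isFinLocFree (hE i))
  have hTfl : ∀ i, a < i → FlatMod.IsFlatOver (N.ι ≫ f) (T.X i) := fun i hi =>
    Models2.FlatIso.isFlatOver_of_iso _ (E.truncGEXIso a i hi).symm
      (PerfC.RelFlat.isFlatOver_of_isFlat (N.ι ≫ f) (Dcoh.Spread.isFlat_of_isFinLocFree (hE i)))
  -- flatness at the point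
  have hat : DerSch.HasTorAmplitudeAt (N.ι ≫ f) a b T ⟨y, hyN⟩ :=
    at_of_iso (N.ι ≫ f) ((restrictDQ N.ι G).symm ≪≫ e) _
      ((K254.StalkTor.hasTorAmplitudeAt_restrict_iff f N.ι G a b ⟨y, hyN⟩).2 hy)
  have hya : FlatMod.IsFlatOverAt (N.ι ≫ f) (T.X a) ⟨y, hyN⟩ := by
    refine AmpRing.flat_X_of_torAmp ((DerSch.stalkCxOver (N.ι ≫ f) ⟨y, hyN⟩).obj T) a b B ?_ ?_ hat
    · exact fun i hi => (DerSch.stalkOver (N.ι ≫ f) _).map_isZero (hTz i hi)
    · exact fun i hi => hTfl i hi _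
  let O : (N : Scheme.{u}).Opens := ⟨_, Flat2G.FlatLocus.isOpen_flatLocus (N.ι ≫ f) (T.X a)
    (PerfC.FPSections.isQCoh_of_isFP (hTfp a)) (hTfp a)⟩
  have hOfl : ∀ i (v : (N : Scheme.{u})), v ∈ O → FlatMod.IsFlatOverAt (N.ι ≫ f) (T.X i) v := by
    intro i v hv
    rcases lt_trichotomy i a with hi | rfl | hi
    · exact PerfC.RelFlat.isFlatOver_of_isZero _ (hTz i (Or.inl hi)) v
    · exact hv
    · exact hTfl i hi v
  refine ⟨O, O.ι ≫ N.ι, inferInstance, ⟨⟨y, hyN⟩, hya⟩, rfl, ?_, ?_⟩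
  · intro m
    let T' := ((Scheme.Modules.restrictFunctor O.ι).mapHomologicalComplex (ComplexShape.up ℤ)).obj T
    have e' : (restrictD (O.ι ≫ N.ι)).obj (DCoh.toD V G) ≅ DCoh.toD O T' :=
      (restrictDComp O.ι N.ι).symm.app _ ≪≫ (restrictD O.ι).mapIso e ≪≫ restrictDQ O.ι T
    refine pc_of_iso e'.symm ?_
    rw [← isPseudoCoherentRel_flat_iff (O.ι ≫ N.ι ≫ f)]
    refine rel_of_termwise T' B m (fun i hi => (Scheme.Modules.restrictFunctor O.ι).map_isZero (hTz i (Or.inr hi)))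
      fun i _ => ?_
    rw [isPseudoCoherentRel_flat_iff]
    refine FlatFP.pc_of_isFP_of_isFlatOver (O.ι ≫ N.ι ≫ f) _ (PerfC.FPSections.isFP_restrict O.ι (hTfp i)) ?_ _
    intro v
    exact (Ega3B.FlatRestrict.isFlatOverAt_restrict_iff_comp (N.ι ≫ f) O.ι _ v).mpr (hOfl i _ v.2)
  · intro o
    refine at_upper f (b' := B) ?_ fun i hi => hG i (Or.inr hi)
    have h3 : DerSch.HasTorAmplitudeAt (N.ι ≫ f) a B T (O.ι o) :=
      at_of_flat (N.ι ≫ f) (fun i hi => hTz i hi) _ fun i => hOfl i _ o.2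
    exact (K254.StalkTor.hasTorAmplitudeAt_restrict_iff f N.ι G a B (O.ι o)).1
      (at_of_iso (N.ι ≫ f) ((restrictDQ N.ι G).symm ≪≫ e).symm _ h3)

end K239.AmpOpen
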