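import Groth.Agent.DRing.K226.TorTri
import Groth.Agent.PerfA.Devissage

/-!
# The bottom term of a complex of given tor amplitude

`flat_X_of_torAmp`: a complex of `A`-modules placed in `[a, B]`, with flat terms in degrees `> a`, and of tor amplitude
in `[a, b]`, has a flat term in degree `a`.
-/

set_option autoImplicit false
universe u

open CategoryTheory CategoryTheory.Limits CategoryTheory.Pretriangulated
attribute [local instance] HasDerivedCategory.standard

namespace K239.AmpRing

open DRing Groth.Agent K226.TorTri K227.PerfFlat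

variable {A : Type u} [CommRing A]

theorem flat_of_torAmp_zero (M : ModuleCat.{u} A) (h : HasTorAmplitudeIn A 0 0
    ((DerivedCategory.singleFunctor (ModuleCat.{u} A) 0).obj M)) : Module.Flat A M := by
  have := hasTorDimLE_of_torAmp 0 M (by simpa using h)
  rwa [Flat2H.TorDim.hasTorDimLE_zero_iff] at this

theorem flat_of_torAmp_single (M : ModuleCat.{u} A) (a b : ℤ) (h : HasTorAmplitudeIn A a b
    ((DerivedCategory.singleFunctor (ModuleCat.{u} A) a).obj M)) : Module.Flat A M := by
  have e : ((DerivedCategory.singleFunctor (ModuleCat.{u} A) a).obj M)⟦a⟧ ≅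
      (DerivedCategory.singleFunctor (ModuleCat.{u} A) 0).obj M :=
    ((DerivedCategory.singleFunctors (ModuleCat.{u} A)).shiftIso a 0 a (by simp)).app M
  have h1 := torAmp_of_iso e (torAmp_shift a h)
  rw [sub_self] at h1
  refine flat_of_torAmp_zero M (torAmp_of_subsingleton_HD h1 fun i hi => ?_)
  exact ModuleCat.subsingleton_of_isZero (DerivedCategory.isZero_of_isLE
    ((DerivedCategory.singleFunctor (ModuleCat.{u} A) 0).obj M) 0 i hi)

theorem flat_X_of_torAmp (T : Cx A) (a b B : ℤ) (h0 : ∀ i, i < a ∨ B < i → IsZero (T.X i))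
    (hf : ∀ i, a < i → Module.Flat A (T.X i)) (h : HasTorAmplitudeIn A a b (toD T)) : Module.Flat A (T.X a) := by
  obtain ⟨E', f, g, d, hT, h1, h2⟩ := PerfA.Devissage.exists_triangle T a (fun i hi => h0 i (Or.inl hi))
  have h3 : HasTorAmplitudeIn A (a + 1) (max b B + 1) (toD E') := by
    refine ⟨E', ?_, ?_, ⟨Iso.refl _⟩⟩
    · rintro i (hi | hi)
      · exact h1 i (by omega)
      · by_cases hia : i ≤ a
        · exact h1 i hia
        · obtain ⟨e⟩ := h2 i (by omega)
          exact (h0 i (Or.inr (by omega))).of_iso e
    · intro i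
      by_cases hia : i ≤ a
      · have := ModuleCat.subsingleton_of_isZero (h1 i hia)
        infer_instance
      · obtain ⟨e⟩ := h2 i (by omega)
        have := hf i (by omega)
        exact Module.Flat.of_linearEquiv e.toLinearEquiv
  exact flat_of_torAmp_single (T.X a) a _ (torAmp_obj₃ hT h3 (torAmp_mono le_rfl (le_max_left b B) h))

end K239.AmpRing
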