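import Groth.Agent.KSix.K239.FibMap
import Groth.Agent.KSix.K241.TenPull
import Groth.Agent.KSix.K238.Amp
import Groth.Agent.KSix.K239.AmpTrunc
import Groth.Agent.FlatMor.K261.TensRel
import Groth.Agent.Dual.H356.TensX
import Groth.Agent.PerfC.LpullTens
import Groth.Agent.PerfA.QCohD
import Groth.Agent.Ega2.QCohLocal

/-!
# External tensor products and fibre products of morphisms

For `f = f₁ ×_S f₂ : X₁ ×_S X₂ → Y₁ ×_S Y₂` with `X₂`, `Y₂` flat over `S`: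

* `rel_external`: relative pseudo-coherence of `Lp₁^* K₁ ⊗ᴸ Lp₂^* K₂`; `isLE_external`: its upper bound;
* `isNPseudoCoherent_fiberProductMap`, `hasTorDimLE_fiberProductMap`: `f` is pseudo-coherent, of bounded tor dimension;
* `torAmp_external`: the stalkwise tor amplitude of the external tensor product.
-/

set_option autoImplicit false
universe u
open CategoryTheory CategoryTheory.Limits AlgebraicGeometry
attribute [local instance] HasDerivedCategory.standard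

namespace K239.ExtTens

open Groth.Agent K239.TorPull K239.TorStalk K239.FibMap K238.StalkD K240.RelChart K240.RelFlat
  Groth.Agent.PerfB.FlatPull

variable {S X₁ Y₁ X₂ Y₂ X Y : Scheme.{u}} {f₁ : X₁ ⟶ Y₁} {q₁ : Y₁ ⟶ S} {f₂ : X₂ ⟶ Y₂} {q₂ : Y₂ ⟶ S}
  {pX₁ : X ⟶ X₁} {pX₂ : X ⟶ X₂} {pY₁ : Y ⟶ Y₁} {pY₂ : Y ⟶ Y₂} {f : X ⟶ Y}

/-- Relative pseudo-coherence of the external tensor product. -/
theorem rel_external [Flat q₂] [Flat (f₂ ≫ q₂)] (hX : IsPullback pX₁ pX₂ (f₁ ≫ q₁) (f₂ ≫ q₂))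
    (hY : IsPullback pY₁ pY₂ q₁ q₂) (hf₁ : f ≫ pY₁ = pX₁ ≫ f₁) (hf₂ : f ≫ pY₂ = pX₂ ≫ f₂)
    [DCoh.HasLpull pX₁] [DCoh.HasLpull pX₂]
    {K₁ : DCoh.D X₁} {a₁ b₁ : ℤ} (h₁ : DerSch.IsPseudoCoherentRel f₁ a₁ K₁) (hb₁ : K₁.IsLE b₁)
    {K₂ : DCoh.D X₂} {a₂ b₂ : ℤ} (hq₂ : DCoh.IsQCohD K₂) (h₂ : DerSch.IsPseudoCoherentRel f₂ a₂ K₂)
    (hb₂ : K₂.IsLE b₂) (L : CochainComplex X.Modules ℤ) [DCoh.HasLTensorCx L]
    (e : DCoh.toD X L ≅ (DCoh.Lpull pX₂).obj K₂) {m : ℤ} (hm₁ : a₁ + b₂ ≤ m) (hm₂ : a₂ + b₁ ≤ m) :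
    DerSch.IsPseudoCoherentRel f m ((DCoh.LTensorCx L).obj ((DCoh.Lpull pX₁).obj K₁)) := by
  obtain ⟨W, r, p, f', w, hW, hX', hY', hf, hr, hp⟩ := exists_factor hX hY hf₁ hf₂
  have i1 : LocallyOfFiniteType f₁ := h₁.1
  have i2 : LocallyOfFiniteType f₂ := h₂.1
  have i3 : LocallyOfFiniteType f' := MorphismProperty.of_isPullback hX' i2
  have i4 : LocallyOfFiniteType w := MorphismProperty.of_isPullback hY' i1
  have i5 : Flat r := MorphismProperty.of_isPullback hW ‹Flat q₂›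
  have i6 : Flat pY₁ := MorphismProperty.of_isPullback hY.flip ‹Flat q₂›
  have i7 := Dcoh.DerPull.hasLpull f'
  have i8 := Dcoh.DerPull.hasLpull r
  have i9 := Dcoh.DerPull.hasLpull (f' ≫ r)
  have h3 : DerSch.IsPseudoCoherentRel w a₁ ((pullbackD r).obj K₁) := isPseudoCoherentRel_pullbackD hY' h₁
  have h4 : DerSch.IsPseudoCoherentRel f' a₂ (DCoh.toD X L) :=
    isPseudoCoherentRel_of_iso e.symm (rel_lpull_of_flat hW hX' hq₂ h₂)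
  have h5 : (DCoh.toD X L).IsLE b₂ := by
    have := Dual.H356.TensX.isLE_lpull pX₂ K₂ b₂ hb₂
    exact DerivedCategory.TStructure.t.isLE_of_iso e.symm b₂
  have h6 : ((pullbackD r).obj K₁).IsLE b₁ := PerfA.ExactD.isLE_map _ _ _
  have h7 := K261.TensRel.rel_ltensor_lpull (g := w) (m := m) L h4 h5 ((pullbackD r).obj K₁) h3 h6
    (by omega) (by omega)
  rw [hf] at h7
  refine isPseudoCoherentRel_of_iso ((DCoh.LTensorCx L).mapIso ?_) h7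
  exact (DCoh.Lpull f').mapIso ((PerfB.FlatPull.lpullIso r).symm.app K₁) ≪≫
    (Dcoh.DerPull.lpullCompIso f' r).app K₁ ≪≫ (Dcoh.DerPull.lpullCongr hr).app K₁

/-- Upper bound of the external tensor product. -/
theorem isLE_external [DCoh.HasLpull pX₁] [DCoh.HasLpull pX₂] {K₁ : DCoh.D X₁} {b₁ : ℤ} (hb₁ : K₁.IsLE b₁)
    {K₂ : DCoh.D X₂} {b₂ : ℤ} (hb₂ : K₂.IsLE b₂) (L : CochainComplex X.Modules ℤ) [DCoh.HasLTensorCx L]
    (e : DCoh.toD X L ≅ (DCoh.Lpull pX₂).obj K₂) :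
    ((DCoh.LTensorCx L).obj ((DCoh.Lpull pX₁).obj K₁)).IsLE (b₁ + b₂) := by
  have h5 : (DCoh.toD X L).IsLE b₂ := by
    have := Dual.H356.TensX.isLE_lpull pX₂ K₂ b₂ hb₂
    exact DerivedCategory.TStructure.t.isLE_of_iso e.symm b₂
  have h1 := Dual.H356.TensX.isLE_lpull pX₁ K₁ b₁ hb₁
  exact K261.TensPush.isLE_ltensor L b₂ h5 _ b₁ h1

/-- The stalkwise tor amplitude of the external tensor product. -/
theorem torAmp_external [Flat q₂] [Flat (f₂ ≫ q₂)] (hX : IsPullback pX₁ pX₂ (f₁ ≫ q₁) (f₂ ≫ q₂))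
    (hY : IsPullback pY₁ pY₂ q₁ q₂) (hf₁ : f ≫ pY₁ = pX₁ ≫ f₁) (hf₂ : f ≫ pY₂ = pX₂ ≫ f₂)
    [DCoh.HasLpull pX₁] [DCoh.HasLpull pX₂]
    {K₁ : DCoh.D X₁} {a₁ b₁ : ℤ} (h₁ : DerSch.HasTorAmplitudeD f₁ a₁ b₁ K₁)
    {K₂ : DCoh.D X₂} {a₂ b₂ : ℤ} (h₂ : DerSch.HasTorAmplitudeD f₂ a₂ b₂ K₂)
    (L : CochainComplex X.Modules ℤ) [DCoh.HasLTensorCx L] (e : DCoh.toD X L ≅ (DCoh.Lpull pX₂).obj K₂) :
    DerSch.HasTorAmplitudeD f (a₁ + a₂) (b₁ + b₂) ((DCoh.LTensorCx L).obj ((DCoh.Lpull pX₁).obj K₁)) := by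
  obtain ⟨W, r, p, f', w, hW, hX', hY', hf, hr, hp⟩ := exists_factor hX hY hf₁ hf₂
  have i6 : Flat pY₁ := MorphismProperty.of_isPullback hY.flip ‹Flat q₂›
  have i7 := Dcoh.DerPull.hasLpull f'
  have i8 := Dcoh.DerPull.hasLpull r
  have i9 := Dcoh.DerPull.hasLpull (f' ≫ r)
  have h3 := hasTorAmplitudeD_lpull_of_flat_right hY' K₁ a₁ b₁ h₁
  have h4 : DerSch.HasTorAmplitude f' a₂ b₂ L := by
    have := (hasTorAmplitudeD_iff f' a₂ b₂ _).1 (hasTorAmplitudeD_lpull_of_flat hW hX' K₂ a₂ b₂ h₂)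
    rw [hasTorAmplitude_iff]
    exact fun x => torAmp_of_iso ((stalkOverD f' x).mapIso e.symm) (this x)
  have h5 := K241.TenPull.hasTorAmplitudeD_ltensor_lpull f' w L h4 ((DCoh.Lpull r).obj K₁)
    ((hasTorAmplitudeD_iff w a₁ b₁ _).1 h3)
  rw [hf, add_comm a₂, add_comm b₂] at h5
  rw [hasTorAmplitudeD_iff] at h5 ⊢
  intro x
  refine torAmp_of_iso ((stalkOverD f x).mapIso ((DCoh.LTensorCx L).mapIso ?_)) (h5 x)
  exact (Dcoh.DerPull.lpullCompIso f' r).app K₁ ≪≫ (Dcoh.DerPull.lpullCongr hr).app K₁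

/-- The tor dimension of a fibre product of morphisms. -/
theorem hasTorDimLE_fiberProductMap [Flat q₂] [Flat (f₂ ≫ q₂)] (hX : IsPullback pX₁ pX₂ (f₁ ≫ q₁) (f₂ ≫ q₂))
    (hY : IsPullback pY₁ pY₂ q₁ q₂) (hf₁ : f ≫ pY₁ = pX₁ ≫ f₁) (hf₂ : f ≫ pY₂ = pX₂ ≫ f₂) (n₁ n₂ : ℕ)
    (h₁ : DerSch.HasTorDimLE f₁ n₁) (h₂ : DerSch.HasTorDimLE f₂ n₂) : DerSch.HasTorDimLE f (n₁ + n₂) := by
  obtain ⟨W, r, p, f', w, hW, hX', hY', hf, hr, hp⟩ := exists_factor hX hY hf₁ hf₂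
  have i6 : Flat pY₁ := MorphismProperty.of_isPullback hY.flip ‹Flat q₂›
  have i7 := Dcoh.DerPull.hasLpull pX₂
  have i8 := Dcoh.DerPull.hasLpull r
  have h3 : DerSch.HasTorDimLE w n₁ := by
    have := (hasTorAmplitudeD_iff w _ _ _).1 (hasTorAmplitudeD_lpull_of_flat_right hY' _ _ _
      ((hasTorAmplitudeD_toD_iff f₁ (-(n₁ : ℤ)) 0 _).2 h₁))
    rw [DerSch.HasTorDimLE, hasTorAmplitude_iff]
    exact fun x => torAmp_of_iso ((stalkOverD w x).mapIso (PerfC.LpullTens.lpullUnit r)) (this x)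
  have h4 : DerSch.HasTorDimLE f' n₂ := by
    have := (hasTorAmplitudeD_iff f' _ _ _).1 (hasTorAmplitudeD_lpull_of_flat hW hX' _ _ _
      ((hasTorAmplitudeD_toD_iff f₂ (-(n₂ : ℤ)) 0 _).2 h₂))
    rw [DerSch.HasTorDimLE, hasTorAmplitude_iff]
    exact fun x => torAmp_of_iso ((stalkOverD f' x).mapIso (PerfC.LpullTens.lpullUnit pX₂)) (this x)
  have h5 := K238.Amp.hasTorAmplitude_comp f' w n₁ h3 (DerSch.unitCx X) _ _ h4
  rw [hf] at h5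
  have e : (-((n₁ + n₂ : ℕ) : ℤ)) = -(n₂ : ℤ) - n₁ := by
    push_cast
    ring
  rw [DerSch.HasTorDimLE, e]
  exact h5

/-- Fibre products of pseudo-coherent morphisms. -/
theorem isNPseudoCoherent_fiberProductMap [Flat q₂] [Flat (f₂ ≫ q₂)]
    (hX : IsPullback pX₁ pX₂ (f₁ ≫ q₁) (f₂ ≫ q₂))
    (hY : IsPullback pY₁ pY₂ q₁ q₂) (hf₁ : f ≫ pY₁ = pX₁ ≫ f₁) (hf₂ : f ≫ pY₂ = pX₂ ≫ f₂) (n : ℤ)
    (h₁ : DerSch.IsNPseudoCoherent f₁ n) (h₂ : DerSch.IsNPseudoCoherent f₂ n) :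
    DerSch.IsNPseudoCoherent f n := by
  have i7 := Dcoh.DerPull.hasLpull pX₂
  have i8 := Dcoh.DerPull.hasLpull pX₁
  have hle : ∀ Z : Scheme.{u}, (DCoh.toD Z (DerSch.unitCx Z)).IsLE 0 := fun Z => by
    rw [DerivedCategory.isLE_Q_obj_iff]
    infer_instance
  have i1 := PerfC.DTens.hasLTensorCx (DerSch.unitCx X)
  have hq : DCoh.IsQCohD (DCoh.toD X₂ (DerSch.unitCx X₂)) :=
    PerfA.QCohD.isQCohD_of_iso (unitIso X₂).symm
      (PerfA.QCohD.isQCohD_inD _ (Ega2.QCohLocal.isQCoh_structureModule X₂))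
  have h3 := rel_external hX hY hf₁ hf₂ h₁ (hle _) hq h₂ (hle _) (DerSch.unitCx X)
    (PerfC.LpullTens.lpullUnit pX₂).symm (m := n) (by omega) (by omega)
  obtain ⟨e⟩ := K261.TensRel.nonempty_tensUnit X ((DCoh.Lpull pX₁).obj (DCoh.toD X₁ (DerSch.unitCx X₁)))
  exact isPseudoCoherentRel_of_iso (e ≪≫ PerfC.LpullTens.lpullUnit pX₁) h3

/-- Complexes of bounded stalkwise tor amplitude are bounded above. -/
theorem isLE_of_hasTorAmplitude {A B : Scheme.{u}} (g : A ⟶ B) {a b : ℤ} {F : CochainComplex A.Modules ℤ}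
    (h : DerSch.HasTorAmplitude g a b F) : (DCoh.toD A F).IsLE b := by
  rw [DerivedCategory.isLE_iff]
  exact fun i hi => AmpTrunc.isZero_HD_of_hasTorAmplitude g h i (Or.inr hi)

/-- Perfect amplitude of the external tensor product. -/
theorem perfAmp_external [Flat q₂] [Flat (f₂ ≫ q₂)] (hX : IsPullback pX₁ pX₂ (f₁ ≫ q₁) (f₂ ≫ q₂))
    (hY : IsPullback pY₁ pY₂ q₁ q₂) (hf₁ : f ≫ pY₁ = pX₁ ≫ f₁) (hf₂ : f ≫ pY₂ = pX₂ ≫ f₂)
    [DCoh.HasLpull pX₁] [DCoh.HasLpull pX₂]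
    {E₁ : CochainComplex X₁.Modules ℤ} {a₁ b₁ : ℤ} (h₁ : DerSch.HasPerfAmplitudeRel f₁ a₁ b₁ E₁)
    {E₂ : CochainComplex X₂.Modules ℤ} {a₂ b₂ : ℤ} (h₂ : DerSch.HasPerfAmplitudeRel f₂ a₂ b₂ E₂)
    (hq₂ : DCoh.IsQCohD (DCoh.toD X₂ E₂))
    (L : CochainComplex X.Modules ℤ) [DCoh.HasLTensorCx L]
    (e : DCoh.toD X L ≅ (DCoh.Lpull pX₂).obj (DCoh.toD X₂ E₂)) (K : CochainComplex X.Modules ℤ)
    (eK : DCoh.toD X K ≅ (DCoh.LTensorCx L).obj ((DCoh.Lpull pX₁).obj (DCoh.toD X₁ E₁))) :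
    DerSch.HasPerfAmplitudeRel f (a₁ + a₂) (b₁ + b₂) K :=
  ⟨fun m => isPseudoCoherentRel_of_iso eK.symm (rel_external hX hY hf₁ hf₂ (h₁.1 (m - b₂))
      (isLE_of_hasTorAmplitude f₁ h₁.2) hq₂ (h₂.1 (m - b₁)) (isLE_of_hasTorAmplitude f₂ h₂.2) L e
      (by omega) (by omega)),
    torAmp_external hX hY hf₁ hf₂ ((hasTorAmplitudeD_toD_iff _ _ _ _).2 h₁.2)
      ((hasTorAmplitudeD_toD_iff _ _ _ _).2 h₂.2) L e K ⟨eK⟩⟩

/-- `Lf^* F ⊗ᴸ E` for complexes of bounded perfect amplitude. -/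
theorem perfAmp_ltensor_lpull {A B C : Scheme.{u}} (g : A ⟶ B) (h : B ⟶ C) [LocallyOfFiniteType g]
    [LocallyOfFiniteType h] [DCoh.HasLpull g] {a b c d : ℤ} {E : CochainComplex A.Modules ℤ}
    (hE : DerSch.HasPerfAmplitudeRel g a b E) {F : CochainComplex B.Modules ℤ}
    (hF : DerSch.HasPerfAmplitudeRel h c d F) [DCoh.HasLTensorCx E] (K : CochainComplex A.Modules ℤ)
    (eK : DCoh.toD A K ≅ (DCoh.LTensorCx E).obj ((DCoh.Lpull g).obj (DCoh.toD B F))) :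
    DerSch.HasPerfAmplitudeRel (g ≫ h) (a + c) (b + d) K :=
  ⟨fun m => isPseudoCoherentRel_of_iso eK.symm (K261.TensRel.rel_ltensor_lpull E (hE.1 (m - d))
      (isLE_of_hasTorAmplitude g hE.2) (DCoh.toD B F) (hF.1 (m - b)) (isLE_of_hasTorAmplitude h hF.2)
      (by omega) (by omega)),
    K241.TenPull.hasTorAmplitudeD_ltensor_lpull g h E hE.2 (DCoh.toD B F)
      ((hasTorAmplitude_iff h c d F).1 hF.2) K ⟨eK⟩⟩

/-- Symmetry of the external tensor product. -/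
theorem nonempty_external_symm (L L' : CochainComplex X.Modules ℤ) [DCoh.HasLTensorCx L] [DCoh.HasLTensorCx L']
    {A B : DCoh.D X} (e : DCoh.toD X L ≅ A) (e' : DCoh.toD X L' ≅ B) :
    Nonempty ((DCoh.LTensorCx L).obj B ≅ (DCoh.LTensorCx L').obj A) :=
  ⟨(PerfC.DTens.LTXcx L).symm.app B ≪≫ ((PerfC.DTens.LTX X).obj B).mapIso e ≪≫
    ((PerfC.LpullTens.symmIso X).symm.app B).app A ≪≫ ((PerfC.DTens.LTX X).obj A).mapIso e'.symm ≪≫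
    (PerfC.DTens.LTXcx L').app A⟩

end K239.ExtTens
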