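import Groth.Agent.KSix.K239.TorCube
import Groth.Agent.KSix.K238.StalkPull
import Groth.Agent.Fdesc.FlatBC

/-!
# Stalkwise tor amplitude and tor independent base change

* `TorAt`: tor independence at a point of a fibre product, in terms of local rings;
* `torAmp_lpull`: the stalkwise tor amplitude is preserved by tor independent base change;
* `torAt_of_flat`: `X₂ → Y₂` and `T ×_S Y₂ → Y₂` are tor independent if `X₂` and `Y₂` are flat over `S`;
* `hasTorAmplitudeD_lpull_of_flat`: the resulting base change statement.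
-/

set_option autoImplicit false
set_option linter.style.haveILetI false
universe u
open CategoryTheory CategoryTheory.Limits AlgebraicGeometry TensorProduct
attribute [local instance] HasDerivedCategory.standard

namespace K239.TorStalk

open Groth.Agent K238.StalkD K238.StalkPull K239.TorCube Groth.Agent.LoccohB

section Point

variable {P X Y' Y : Scheme.{u}} {p : P ⟶ X} {q : P ⟶ Y'} {f : X ⟶ Y} {g : Y' ⟶ Y}

/-- Tor independence at a point of a fibre product. -/
def TorAt (w : p ≫ f = q ≫ g) (z : P) : Prop :=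
  ∀ n : ℕ, 1 ≤ n → Subsingleton (@DRing.Tor (Y.presheaf.stalk (f.base (p.base z))) _ n
    (X.presheaf.stalk (p.base z)) (Y'.presheaf.stalk (q.base z)) _ (f.stalkMap (p.base z)).hom.toModule _
    (Fdesc.FlatBC.crossMap w z).hom.toModule)

/-- The stalkwise tor amplitude is preserved by tor independent base change. -/
theorem torAmp_lpull (H : IsPullback p q f g) (z : P) (htor : TorAt H.w z) [DCoh.HasLpull p] (K : DCoh.D X)
    (a b : ℤ) (hK : DRing.HasTorAmplitudeIn (Y.presheaf.stalk (f.base (p.base z))) a b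
      ((stalkOverD f (p.base z)).obj K)) :
    DRing.HasTorAmplitudeIn (Y'.presheaf.stalk (q.base z)) a b
      ((stalkOverD q z).obj ((DCoh.Lpull p).obj K)) := by
  letI : Algebra (Y.presheaf.stalk (f.base (p.base z))) (X.presheaf.stalk (p.base z)) :=
    (f.stalkMap (p.base z)).hom.toAlgebra
  letI : Algebra (Y.presheaf.stalk (f.base (p.base z))) (Y'.presheaf.stalk (q.base z)) :=
    (Fdesc.FlatBC.crossMap H.w z).hom.toAlgebra
  letI : Algebra (X.presheaf.stalk (p.base z)) (P.presheaf.stalk z) := (p.stalkMap z).hom.toAlgebra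
  letI : Algebra (Y'.presheaf.stalk (q.base z)) (P.presheaf.stalk z) := (q.stalkMap z).hom.toAlgebra
  letI : Algebra (Y.presheaf.stalk (f.base (p.base z))) (P.presheaf.stalk z) :=
    (f.stalkMap (p.base z) ≫ p.stalkMap z).hom.toAlgebra
  haveI : IsScalarTower (Y.presheaf.stalk (f.base (p.base z))) (X.presheaf.stalk (p.base z))
    (P.presheaf.stalk z) := IsScalarTower.of_algebraMap_eq fun _ => rfl
  haveI : IsScalarTower (Y.presheaf.stalk (f.base (p.base z))) (Y'.presheaf.stalk (q.base z))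
    (P.presheaf.stalk z) := IsScalarTower.of_algebraMap_eq fun r =>
      (ConcreteCategory.congr_hom (Fdesc.FlatBC.crossMap_comp H.w z) r).symm
  haveI i1 : DRing.HasLBaseChange (algebraMap (X.presheaf.stalk (p.base z)) (P.presheaf.stalk z)) :=
    LBC.hasLBaseChange _
  haveI i2 : DRing.HasLBaseChange (p.stalkMap z).hom := i1
  obtain ⟨e⟩ := nonempty_stalkD_lpull p z K
  have h1 := torAmp_cube (Fdesc.FlatBC.flat_productMap_stalk H z) htor ((stalkD (p.base z)).obj K) a b hK
  exact torAmp_of_iso ((DRing.restrictD (q.stalkMap z).hom).mapIso e.symm) h1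

end Point

section Flat

variable {S T Y₂ X₂ W X : Scheme.{u}} {q₂ : Y₂ ⟶ S} {t : T ⟶ S} {p : W ⟶ Y₂} {r : W ⟶ T} {f₂ : X₂ ⟶ Y₂}
  {g : X ⟶ X₂} {f' : X ⟶ W}

/-- `X₂ → Y₂` and `T ×_S Y₂ → Y₂` are tor independent if `X₂` and `Y₂` are flat over `S`. -/
theorem torAt_of_flat (HW : IsPullback p r q₂ t) (w : g ≫ f₂ = f' ≫ p) [Flat q₂] [Flat (f₂ ≫ q₂)] (x : X) :
    TorAt w x := by
  have w' : (g ≫ f₂) ≫ q₂ = (f' ≫ r) ≫ t := by rw [w, Category.assoc, Category.assoc, HW.w]
  obtain ⟨cm, hcm⟩ : ∃ cm : S.presheaf.stalk (q₂.base (f₂.base (g.base x))) ⟶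
      T.presheaf.stalk (r.base (f'.base x)), Spec.map cm ≫ S.fromSpecStalk (q₂.base (f₂.base (g.base x))) =
        T.fromSpecStalk (r.base (f'.base x)) ≫ t :=
    ⟨Fdesc.FlatBC.crossMap w' x, Fdesc.FlatBC.SpecMap_crossMap w' x⟩
  letI a1 : Algebra (S.presheaf.stalk (q₂.base (f₂.base (g.base x)))) (Y₂.presheaf.stalk (f₂.base (g.base x))) :=
    (q₂.stalkMap (f₂.base (g.base x))).hom.toAlgebra
  letI a2 : Algebra (Y₂.presheaf.stalk (f₂.base (g.base x))) (X₂.presheaf.stalk (g.base x)) :=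
    (f₂.stalkMap (g.base x)).hom.toAlgebra
  letI a3 : Algebra (S.presheaf.stalk (q₂.base (f₂.base (g.base x)))) (X₂.presheaf.stalk (g.base x)) :=
    (q₂.stalkMap (f₂.base (g.base x)) ≫ f₂.stalkMap (g.base x)).hom.toAlgebra
  letI a4 : Algebra (S.presheaf.stalk (q₂.base (f₂.base (g.base x)))) (T.presheaf.stalk (r.base (f'.base x))) :=
    cm.hom.toAlgebra
  letI a5 : Algebra (Y₂.presheaf.stalk (f₂.base (g.base x))) (W.presheaf.stalk (f'.base x)) :=
    (Fdesc.FlatBC.crossMap w x).hom.toAlgebra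
  letI a6 : Algebra (T.presheaf.stalk (r.base (f'.base x))) (W.presheaf.stalk (f'.base x)) :=
    (r.stalkMap (f'.base x)).hom.toAlgebra
  letI a7 : Algebra (S.presheaf.stalk (q₂.base (f₂.base (g.base x)))) (W.presheaf.stalk (f'.base x)) :=
    (q₂.stalkMap (f₂.base (g.base x)) ≫ Fdesc.FlatBC.crossMap w x).hom.toAlgebra
  have hcomm : cm ≫ r.stalkMap (f'.base x) =
      q₂.stalkMap (f₂.base (g.base x)) ≫ Fdesc.FlatBC.crossMap w x := by
    apply Spec.map_injective
    rw [← cancel_mono (S.fromSpecStalk (q₂.base (f₂.base (g.base x)))), Spec.map_comp, Spec.map_comp,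
      Category.assoc, Category.assoc, hcm, Scheme.SpecMap_stalkMap_fromSpecStalk,
      Scheme.SpecMap_stalkMap_fromSpecStalk_assoc, reassoc_of% (Fdesc.FlatBC.SpecMap_crossMap w x), HW.w]
  haveI : IsScalarTower (S.presheaf.stalk (q₂.base (f₂.base (g.base x)))) (Y₂.presheaf.stalk (f₂.base (g.base x)))
    (X₂.presheaf.stalk (g.base x)) := IsScalarTower.of_algebraMap_eq fun _ => rfl
  haveI : IsScalarTower (S.presheaf.stalk (q₂.base (f₂.base (g.base x)))) (Y₂.presheaf.stalk (f₂.base (g.base x)))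
    (W.presheaf.stalk (f'.base x)) := IsScalarTower.of_algebraMap_eq fun _ => rfl
  haveI : IsScalarTower (S.presheaf.stalk (q₂.base (f₂.base (g.base x)))) (T.presheaf.stalk (r.base (f'.base x)))
    (W.presheaf.stalk (f'.base x)) := IsScalarTower.of_algebraMap_eq fun s =>
      (ConcreteCategory.congr_hom hcomm s).symm
  haveI : Module.Flat (S.presheaf.stalk (q₂.base (f₂.base (g.base x))))
      (Y₂.presheaf.stalk (f₂.base (g.base x))) := Flat.stalkMap q₂ _
  haveI : Module.Flat (S.presheaf.stalk (q₂.base (f₂.base (g.base x)))) (X₂.presheaf.stalk (g.base x)) := by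
    have h1 := Flat.stalkMap (f₂ ≫ q₂) (g.base x)
    rw [Scheme.Hom.stalkMap_comp] at h1
    exact h1
  haveI := Groth.Agent.Fdesc.FlatStalk.flat_fromSpecStalk W (f'.base x)
  have h : (Algebra.TensorProduct.productMap
      (IsScalarTower.toAlgHom (S.presheaf.stalk (q₂.base (f₂.base (g.base x))))
        (Y₂.presheaf.stalk (f₂.base (g.base x))) (W.presheaf.stalk (f'.base x)))
      (IsScalarTower.toAlgHom (S.presheaf.stalk (q₂.base (f₂.base (g.base x))))
        (T.presheaf.stalk (r.base (f'.base x))) (W.presheaf.stalk (f'.base x)))).toRingHom.Flat :=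
    Fdesc.StalkCube.flat_productMap_of_cube HW (W.fromSpecStalk (f'.base x))
      (Y₂.fromSpecStalk (f₂.base (g.base x))) (T.fromSpecStalk (r.base (f'.base x)))
      (S.fromSpecStalk (q₂.base (f₂.base (g.base x)))) (Fdesc.FlatBC.SpecMap_crossMap w x)
      (Scheme.SpecMap_stalkMap_fromSpecStalk r) (Scheme.SpecMap_stalkMap_fromSpecStalk q₂) hcm
  exact fun n hn => tor_of_flat_cube h n hn

/-- Stalkwise tor amplitude of `Lg^* K` relative to `X → T ×_S Y₂`. -/
theorem hasTorAmplitudeD_lpull_of_flat (HW : IsPullback p r q₂ t) (HX : IsPullback g f' f₂ p) [Flat q₂]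
    [Flat (f₂ ≫ q₂)] [DCoh.HasLpull g] (K : DCoh.D X₂) (a b : ℤ) (hK : DerSch.HasTorAmplitudeD f₂ a b K) :
    DerSch.HasTorAmplitudeD f' a b ((DCoh.Lpull g).obj K) := by
  rw [hasTorAmplitudeD_iff] at hK ⊢
  exact fun x => torAmp_lpull HX x (torAt_of_flat HW HX.w x) K a b (hK _)

end Flat

end K239.TorStalk
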