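import Groth.Agent.KSix.K239.TorPull
import Groth.Agent.KSix.K239.TorStalk

/-!
# Fibre products of morphisms over a base

* `exists_factor`: `X₁ ×_S X₂ → Y₁ ×_S Y₂` factors through `W = X₁ ×_S Y₂`, with cartesian squares;
* `locTor_of_flat`: `X₂ → Y₂` and `W → Y₂` are tor independent (affine form) if `X₂`, `Y₂` are flat over `S`;
* `rel_lpull_of_flat`: relative pseudo-coherence of `Lp₂^* E₂` over `W`;
* `torAt_of_flat_right`, `hasTorAmplitudeD_lpull_of_flat_right`: flat base change of the stalkwise tor amplitude.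
-/

set_option autoImplicit false
universe u
open CategoryTheory CategoryTheory.Limits AlgebraicGeometry
attribute [local instance] HasDerivedCategory.standard

namespace K239.FibMap

open Groth.Agent K239.TorPull K239.TorStalk K478.TorBC K238.StalkD

section Factor

variable {S X₁ Y₁ X₂ Y₂ X Y : Scheme.{u}} {f₁ : X₁ ⟶ Y₁} {q₁ : Y₁ ⟶ S} {f₂ : X₂ ⟶ Y₂} {q₂ : Y₂ ⟶ S}
  {pX₁ : X ⟶ X₁} {pX₂ : X ⟶ X₂} {pY₁ : Y ⟶ Y₁} {pY₂ : Y ⟶ Y₂} {f : X ⟶ Y}

/-- The factorization through `X₁ ×_S Y₂`. -/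
theorem exists_factor (hX : IsPullback pX₁ pX₂ (f₁ ≫ q₁) (f₂ ≫ q₂)) (hY : IsPullback pY₁ pY₂ q₁ q₂)
    (hf₁ : f ≫ pY₁ = pX₁ ≫ f₁) (hf₂ : f ≫ pY₂ = pX₂ ≫ f₂) :
    ∃ (W : Scheme.{u}) (r : W ⟶ X₁) (p : W ⟶ Y₂) (f' : X ⟶ W) (w : W ⟶ Y),
      IsPullback p r q₂ (f₁ ≫ q₁) ∧ IsPullback pX₂ f' f₂ p ∧ IsPullback r w f₁ pY₁ ∧ f' ≫ w = f ∧
        f' ≫ r = pX₁ ∧ w ≫ pY₂ = p := by
  let W := pullback (f₁ ≫ q₁) q₂
  let r : W ⟶ X₁ := pullback.fst _ _
  let p : W ⟶ Y₂ := pullback.snd _ _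
  have hW : IsPullback r p (f₁ ≫ q₁) q₂ := IsPullback.of_hasPullback _ _
  let f' : X ⟶ W := hW.lift pX₁ (pX₂ ≫ f₂) (by rw [hX.w, Category.assoc])
  have e1 : f' ≫ r = pX₁ := hW.lift_fst _ _ _
  have e2 : f' ≫ p = pX₂ ≫ f₂ := hW.lift_snd _ _ _
  let w : W ⟶ Y := hY.lift (r ≫ f₁) p (by rw [Category.assoc, hW.w])
  have e3 : w ≫ pY₁ = r ≫ f₁ := hY.lift_fst _ _ _
  have e4 : w ≫ pY₂ = p := hY.lift_snd _ _ _
  refine ⟨W, r, p, f', w, hW.flip, ?_, ?_, ?_, e1, e4⟩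
  · -- `X = X₂ ×_{Y₂} W`
    have h1 : IsPullback (f' ≫ r) pX₂ (f₁ ≫ q₁) (f₂ ≫ q₂) := by rwa [e1]
    exact (IsPullback.of_right h1 e2 hW).flip
  · have h1 : IsPullback (w ≫ pY₂) r q₂ (f₁ ≫ q₁) := by rw [e4]; exact hW.flip
    exact (IsPullback.of_right h1 e3 hY.flip).flip
  · apply hY.hom_ext
    · rw [Category.assoc, e3, ← Category.assoc, e1, hf₁]
    · rw [Category.assoc, e4, e2, hf₂]

end Factor

/-- Cancellation of monomorphisms. -/
lemma flat_of_comp_mono {A B C : Scheme.{u}} (k : A ⟶ B) (j : B ⟶ C) (hj : Mono j) (h : Flat (k ≫ j)) : Flat k := by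
  have e : k = (asIso (pullback.fst (k ≫ j) j)).inv ≫ pullback.snd (k ≫ j) j := by
    simp [← cancel_mono j, pullback.condition]
  rw [e]
  infer_instance

section Tor

variable {S T Y₂ X₂ W X : Scheme.{u}} {q₂ : Y₂ ⟶ S} {t : T ⟶ S} {p : W ⟶ Y₂} {r : W ⟶ T} {f₂ : X₂ ⟶ Y₂}
  {g : X ⟶ X₂} {f' : X ⟶ W}

/-- `X₂ → Y₂` and `W = T ×_S Y₂ → Y₂` are tor independent if `X₂` and `Y₂` are flat over `S`. -/
theorem locTor_of_flat (HW : IsPullback p r q₂ t) [Flat q₂] [Flat (f₂ ≫ q₂)] (w : W) : LocTor f₂ p w := by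
  obtain ⟨VS, hVS, hs, -⟩ := exists_isAffineOpen_mem_and_subset (x := q₂ (p w)) (U := ⊤) trivial
  obtain ⟨VY, hVY, hy, hYS⟩ := exists_isAffineOpen_mem_and_subset (x := p w) (U := q₂ ⁻¹ᵁ VS) hs
  have hs' : t (r w) ∈ VS := by
    rw [← Scheme.Hom.comp_apply, ← HW.w, Scheme.Hom.comp_apply]
    exact hs
  obtain ⟨VT, hVT, ht, hTS⟩ := exists_isAffineOpen_mem_and_subset (x := r w) (U := t ⁻¹ᵁ VS) hs'
  let R : CommRingCat.{u} := Γ(S, VS)
  let A : CommRingCat.{u} := Γ(Y₂, VY)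
  let B : CommRingCat.{u} := Γ(T, VT)
  let ι : R ⟶ A := q₂.appLE VS VY hYS
  let β : R ⟶ B := t.appLE VS VT hTS
  have e1 : Spec.map ι ≫ hVS.fromSpec = hVY.fromSpec ≫ q₂ := IsAffineOpen.SpecMap_appLE_fromSpec q₂ hVS hVY hYS
  have e2 : Spec.map β ≫ hVS.fromSpec = hVT.fromSpec ≫ t := IsAffineOpen.SpecMap_appLE_fromSpec t hVS hVT hTS
  have sq : IsPushout ι β (pushout.inl ι β) (pushout.inr ι β) := IsPushout.of_hasPushout _ _
  have sq0 : IsPullback (Spec.map (pushout.inl ι β)) (Spec.map (pushout.inr ι β)) (Spec.map ι) (Spec.map β) :=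
    isPullback_SpecMap_of_isPushout _ _ _ _ sq
  let b' : Spec (pushout ι β) ⟶ W := HW.lift (Spec.map (pushout.inl ι β) ≫ hVY.fromSpec)
    (Spec.map (pushout.inr ι β) ≫ hVT.fromSpec) (by
      rw [Category.assoc, Category.assoc, ← e1, ← e2]
      have k := congrArg (fun k => k ≫ hVS.fromSpec) sq0.w
      simpa only [Category.assoc] using k)
  have h1 : b' ≫ p = Spec.map (pushout.inl ι β) ≫ hVY.fromSpec := HW.lift_fst _ _ _
  have h2 : b' ≫ r = Spec.map (pushout.inr ι β) ≫ hVT.fromSpec := HW.lift_snd _ _ _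
  have ib : IsOpenImmersion b' := openImm_of_cube HW sq0 b' hVY.fromSpec hVT.fromSpec hVS.fromSpec h1 h2 e1 e2
  obtain ⟨y, hy'⟩ : p w ∈ Set.range hVY.fromSpec := by
    rw [hVY.range_fromSpec]
    exact hy
  obtain ⟨z, hz'⟩ : r w ∈ Set.range hVT.fromSpec := by
    rw [hVT.range_fromSpec]
    exact ht
  obtain ⟨y₀, hy₀⟩ := exists_preimage_of_cube HW sq0 b' hVY.fromSpec hVT.fromSpec hVS.fromSpec h1 h2 e1 e2 w y z
    hy' hz'
  have hfl : Flat (hVY.fromSpec ≫ q₂) := inferInstance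
  have hι : ι.hom.Flat := by
    rw [← e1] at hfl
    exact Flat.SpecMap_iff.1 (flat_of_comp_mono _ _ inferInstance hfl)
  refine ⟨A, pushout ι β, hVY.fromSpec, b', pushout.inl ι β, inferInstance, ib, h1.symm, ⟨y₀, hy₀⟩, ?_⟩
  intro C a φ _ ha
  refine torVan_push sq hι φ ?_
  have hfl' : Flat (a ≫ f₂ ≫ q₂) := inferInstance
  have e3 : Spec.map (ι ≫ φ) ≫ hVS.fromSpec = a ≫ f₂ ≫ q₂ := by
    rw [Spec.map_comp, Category.assoc, e1, reassoc_of% ha]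
  have hιφ : (ι ≫ φ).hom.Flat := by
    rw [← e3] at hfl'
    exact Flat.SpecMap_iff.1 (flat_of_comp_mono _ _ inferInstance hfl')
  intro i hi
  obtain ⟨k, rfl⟩ : ∃ k, i = k + 1 := ⟨i - 1, by omega⟩
  exact @CycA.TorShift.subsingleton_of_flat_right R _ k B C _ β.hom.toModule _ (ι ≫ φ).hom.toModule hιφ

/-- Relative pseudo-coherence of `Lg^* K` relative to `X → T ×_S Y₂`. -/
theorem rel_lpull_of_flat (HW : IsPullback p r q₂ t) (HX : IsPullback g f' f₂ p) [Flat q₂] [Flat (f₂ ≫ q₂)]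
    [DCoh.HasLpull g] {m : ℤ} {K : DCoh.D X₂} (hq : DCoh.IsQCohD K) (hK : DerSch.IsPseudoCoherentRel f₂ m K) :
    DerSch.IsPseudoCoherentRel f' m ((DCoh.Lpull g).obj K) :=
  isPseudoCoherentRel_lpull_tor HX (fun _ => locTor_of_flat HW _) hq hK

end Tor

section FlatRight

variable {P X Y' Y : Scheme.{u}} {p : P ⟶ X} {q : P ⟶ Y'} {f : X ⟶ Y} {g : Y' ⟶ Y}

/-- Flat base change is tor independent. -/
theorem torAt_of_flat_right (w : p ≫ f = q ≫ g) [Flat g] (z : P) : TorAt w z := by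
  intro n hn
  obtain ⟨k, rfl⟩ : ∃ k, n = k + 1 := ⟨n - 1, by omega⟩
  exact @CycA.TorShift.subsingleton_of_flat_right (Y.presheaf.stalk (f.base (p.base z))) _ k
    (X.presheaf.stalk (p.base z)) (Y'.presheaf.stalk (q.base z)) _ (f.stalkMap (p.base z)).hom.toModule _
    (Fdesc.FlatBC.crossMap w z).hom.toModule (Fdesc.FlatBC.flat_crossMap w z)

/-- Flat base change of the stalkwise tor amplitude. -/
theorem hasTorAmplitudeD_lpull_of_flat_right (H : IsPullback p q f g) [Flat g] [DCoh.HasLpull p] (K : DCoh.D X)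
    (a b : ℤ) (hK : DerSch.HasTorAmplitudeD f a b K) : DerSch.HasTorAmplitudeD q a b ((DCoh.Lpull p).obj K) := by
  rw [hasTorAmplitudeD_iff] at hK ⊢
  exact fun x => torAmp_lpull H x (torAt_of_flat_right H.w x) K a b (hK _)

end FlatRight

end K239.FibMap
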