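import Groth.Agent.Flat2H.FlatPC3
import Mathlib.Algebra.TrivSqZeroExt.Basic
import Mathlib.RingTheory.Finiteness.ModuleFinitePresentation

/-!
# Finitely presented modules flat over the base are pseudo-coherent

`fpInf_of_flat`: let `S` be a flat `R`-algebra of finite presentation and `M` a finitely presented `S`-module which
is flat over `R`.  Then `M` has a resolution by finite free `S`-modules.

The proof applies the result for algebras to the trivial square zero extension of `S` by `M`.
-/

set_option autoImplicit false
universe u

namespace K239.FlatFP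

open Groth.Agent.Flat2H

theorem fpInf_of_ext {P B S M : Type u} [CommRing P] [CommRing B] [CommRing S] [AddCommGroup M] [Module S M]
    (φ : P →+* B) (fst : B →+* S) (hfst : Function.Surjective fst) (inr : M →+ B)
    (hinr : Function.Injective inr) (hex : ∀ b, fst b = 0 ↔ ∃ m, inr m = b)
    (hmul : ∀ b m, b * inr m = inr (fst b • m)) (hB : PCMap φ) (hS : PCMap (fst.comp φ)) : FPInf S M := by
  let _ : Algebra P B := φ.toAlgebra
  let _ : Algebra P S := (fst.comp φ).toAlgebra
  let _ : Module P M := Module.compHom M (fst.comp φ)
  have : IsScalarTower P S M := ⟨fun p s m => mul_smul (fst (φ p)) s m⟩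
  have hB : FPInf P B := pcMap_algebraMap_iff.1 hB
  have hS : FPInf P S := pcMap_algebraMap_iff.1 hS
  let i : M →ₗ[P] B :=
    { inr with
      map_smul' := fun p m => by
        change inr (fst (φ p) • m) = φ p * inr m
        rw [hmul] }
  let q : B →ₗ[P] S :=
    { fst.toAddMonoidHom with
      map_smul' := fun p b => by
        change fst (φ p * b) = fst (φ p) * fst b
        rw [map_mul] }
  refine (FPInf.tower_iff hS).2 (FPInf.left i q hinr hfst ?_ hB hS)
  intro b
  exact hex b

/-- a product of two flat modules is flat -/
theorem flat_prod (A : Type u) [CommRing A] (M N : Type u) [AddCommGroup M] [AddCommGroup N]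
    [Module A M] [Module A N] [Module.Flat A M] [Module.Flat A N] : Module.Flat A (M × N) := by
  rw [Module.Flat.iff_lTensor_preserves_injective_linearMap'.{u}]
  intro P Q _ _ _ _ f hf
  have h1 : Function.Injective (f.lTensor M) := Module.Flat.lTensor_preserves_injective_linearMap f hf
  have h2 : Function.Injective (f.lTensor N) := Module.Flat.lTensor_preserves_injective_linearMap f hf
  have h3 : ((f.lTensor M).prodMap (f.lTensor N)) ∘ₗ
      (TensorProduct.prodLeft A A M N P).toLinearMap =
      (TensorProduct.prodLeft A A M N Q).toLinearMap ∘ₗ (f.lTensor (M × N)) := by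
    ext <;> simp
  have h4 : Function.Injective (((f.lTensor M).prodMap (f.lTensor N)) ∘ₗ
      (TensorProduct.prodLeft A A M N P).toLinearMap) := by
    rw [LinearMap.coe_comp]
    refine Function.Injective.comp ?_ (TensorProduct.prodLeft A A M N P).injective
    rw [LinearMap.coe_prodMap]
    exact Function.Injective.prodMap h1 h2
  rw [h3, LinearMap.coe_comp] at h4
  exact Function.Injective.of_comp h4

variable {R S M : Type u} [CommRing R] [CommRing S] [Algebra R S] [AddCommGroup M] [Module S M] [Module R M]
  [IsScalarTower R S M]

theorem fpInf_of_flat [Module.Flat R S] [Algebra.FinitePresentation R S] [Module.FinitePresentation S M]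
    [Module.Flat R M] : FPInf S M := by
  let _ : Module Sᵐᵒᵖ M := Module.compHom _ ((RingHom.id S).fromOpposite mul_comm)
  have : IsCentralScalar S M := ⟨fun r m => rfl⟩
  let B := TrivSqZeroExt S M
  have : IsScalarTower R Sᵐᵒᵖ M := ⟨fun r s m => by
    change (r • s.unop) • m = r • (s.unop • m)
    exact smul_assoc _ _ _⟩
  have : IsScalarTower R S B := inferInstance
  have e : B ≃ₗ[S] S × M := LinearEquiv.refl S (S × M)
  have : Module.FinitePresentation S (S × M) := inferInstance
  have : Module.FinitePresentation S B := Module.FinitePresentation.of_equiv e.symm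
  have : Algebra.FinitePresentation S B := inferInstance
  have : Algebra.FinitePresentation R B := Algebra.FinitePresentation.trans R S B
  have : Module.Flat R (S × M) := flat_prod R S M
  have : Module.Flat R B := Module.Flat.of_linearEquiv (e.restrictScalars R)
  obtain ⟨n, φ, hφ, h⟩ := PCHom.of_flat R B
  have hfst : Function.Surjective (TrivSqZeroExt.fstHom S S M) := fun s => ⟨TrivSqZeroExt.inl s, rfl⟩
  refine fpInf_of_ext φ.toRingHom (TrivSqZeroExt.fstHom S S M).toRingHom hfst
    ⟨⟨TrivSqZeroExt.inr, TrivSqZeroExt.inr_zero S⟩, TrivSqZeroExt.inr_add S⟩ TrivSqZeroExt.inr_injective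
    (fun b => ?_) (fun b m => ?_) h ?_
  · constructor
    · intro hb
      refine ⟨b.snd, ?_⟩
      have hb' : b.fst = 0 := hb
      change TrivSqZeroExt.inr b.snd = b
      conv_rhs => rw [← TrivSqZeroExt.inl_fst_add_inr_snd_eq b, hb', TrivSqZeroExt.inl_zero, zero_add]
    · rintro ⟨m, rfl⟩
      rfl
  · change b * TrivSqZeroExt.inr m = TrivSqZeroExt.inr (b.fst • m)
    conv_lhs => rw [← TrivSqZeroExt.inl_fst_add_inr_snd_eq b, add_mul, TrivSqZeroExt.inl_mul_inr,
          TrivSqZeroExt.inr_mul_inr, add_zero]
  · exact pcMap_of_flat (((TrivSqZeroExt.fstHom S S M).restrictScalars R).comp φ) (hfst.comp hφ)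

end K239.FlatFP
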