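import Groth.Agent.KSix.K239.FlatFP
import Groth.Agent.PerfC.FPSections
import Groth.Agent.PerfC.FinitePush
import Groth.Agent.Flat2H.PCBridge
import Groth.Agent.PerfA.GB3Ring
import Groth.Agent.S2066
import Groth.Agent.S2394
import Groth.Agent.Ega3B.FlatRestrict
import Groth.Agent.Models2.FlatIso

/-!
# Finitely presented modules flat over the base, on a flat locally finitely presented scheme

`pc_of_isFP_of_isFlatOver`: let `p : P ⟶ S` be flat and locally of finite presentation and `M` an `O_P`-module of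
finite presentation which is flat over `S`.  Then `M` is pseudo-coherent.

`isFlatOver_of_open_nhd`-type statements: localization on `P`.
-/

set_option autoImplicit false
universe u

open AlgebraicGeometry CategoryTheory CategoryTheory.Limits Opposite TopologicalSpace

attribute [local instance] HasDerivedCategory.standard

namespace K239.FlatFP

open Groth.Agent Groth.Agent.PerfC.PcLocal

theorem pc_tilde_of_fpInf {B : CommRingCat.{u}} (N : ModuleCat.{u} B) (h : Flat2H.FPInf B N) (m : ℤ) :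
    DCoh.IsPseudoCoherentD m (DCoh.inD (Spec B) (tilde N)) := by
  have h1 : DRing.IsPseudoCoherent' B (Dual.inD B N) :=
    (Flat2H.PCBridge.isPseudoCoherentModule'_iff N).2 h
  have h2 : DRing.IsPseudoCoherent B m (Dual.inD B N) := (S2066.result _).1.2 h1 m
  exact pc_of_iso (((tilde.functor B).mapDerivedCategorySingleFunctor 0).app N)
    ((PerfA.GB3.isPseudoCoherentD_tildeD_iff B _ m).2 h2)

theorem fpInf_of_spec {A B : CommRingCat.{u}} (φ : A ⟶ B) (hφ : φ.hom.Flat) (hφ' : φ.hom.FinitePresentation)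
    (N : ModuleCat.{u} B) [Module.FinitePresentation B N] (hN : FlatMod.IsFlatOver (Spec.map φ) (tilde N)) :
    Flat2H.FPInf B N := by
  let _ : Algebra A B := φ.hom.toAlgebra
  let _ : Module A N := Module.compHom N φ.hom
  have : IsScalarTower A B N := ⟨fun r s m => by
    change (φ.hom r * s) • m = φ.hom r • (s • m)
    rw [mul_smul]⟩
  have : Module.Flat A B := hφ
  have : Algebra.FinitePresentation A B := hφ'
  have : Module.Flat A N := (S2394.result A B N).1 hN
  exact fpInf_of_flat (R := A)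

theorem pc_of_isFP_of_isFlatOver {P S : Scheme.{u}} (p : P ⟶ S) [Flat p] [LocallyOfFinitePresentation p]
    (M : P.Modules) (hM : CohB1.IsFP M) (hfl : FlatMod.IsFlatOver p M) (m : ℤ) :
    DCoh.IsPseudoCoherentD m (DCoh.inD P M) := by
  refine pc_of_cover _ fun y => ?_
  have hM0 := hM
  rw [CohB1.IsFP, CohqA.FinLocal.isFP_iff] at hM0
  obtain ⟨U, hyU, hU⟩ := hM0 y
  obtain ⟨_, ⟨T, hT, rfl⟩, hyT, -⟩ := S.isBasis_affineOpens.exists_subset_of_mem_open
    (Set.mem_univ (p y)) isOpen_univ
  obtain ⟨_, ⟨V, hV, rfl⟩, hy, hVT⟩ := P.isBasis_affineOpens.exists_subset_of_mem_open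
    (show y ∈ (p ⁻¹ᵁ T ⊓ U : P.Opens) from ⟨hyT, hyU⟩) (p ⁻¹ᵁ T ⊓ U).2
  have hT : IsAffineOpen T := hT
  have hV : IsAffineOpen V := hV
  obtain ⟨z, hz⟩ : y ∈ Set.range hV.fromSpec := by rw [hV.range_fromSpec]; exact hy
  refine ⟨_, hV.fromSpec, inferInstance, z, hz, ?_⟩
  refine pc_of_iso (PerfA.PerfLocal.restrictInD hV.fromSpec _).symm ?_
  have hM1 : CohB1.IsFP (M.restrict hV.fromSpec) := PerfC.FPSections.isFP_restrict _ hM
  have hM2 : Coh.IsQCoh (M.restrict hV.fromSpec) := PerfC.FPSections.isQCoh_of_isFP hM1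
  have hle : V ≤ p ⁻¹ᵁ T := fun x hx => (hVT hx).1
  have hle' : V ≤ U := fun x hx => (hVT hx).2
  have hG : CohqA.FinLocal.GFP (M.restrict hV.fromSpec) :=
    PerfC.FPSections.gfp_restrict_of_fac U.ι hU (hV.isoSpec.inv ≫ P.homOfLE hle') hV.fromSpec (by simp)
  have hfp := PerfC.FPSections.finitePresentation_top _ hM2 hG
  have : (M.restrict hV.fromSpec).IsQuasicoherent := hM2
  let e := asIso (M.restrict hV.fromSpec).fromTildeΓ
  refine pc_of_iso ((DerivedCategory.singleFunctor _ 0).mapIso e) ?_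
  have hf1 : FlatMod.IsFlatOver (Spec.map (p.appLE T V hle)) (M.restrict hV.fromSpec) := by
    refine Ega3B.FlatRestrict.isFlatOver_restrict p _ hV.fromSpec hT.fromSpec ?_ M hfl
    rw [IsAffineOpen.SpecMap_appLE_fromSpec]
  have hf2 := Models2.FlatIso.isFlatOver_of_iso _ e.symm hf1
  refine pc_tilde_of_fpInf _ (@fpInf_of_spec _ _ (p.appLE T V hle) (Flat.flat_appLE (f := p) hT hV hle)
    (LocallyOfFinitePresentation.finitePresentation_appLE (f := p) hT hV hle) _ ?_ hf2) m
  exact hfp

end K239.FlatFP
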