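import Groth.Agent.PerfC.ClosedImmPc

/-!
# Graded pseudo-coherence and pushforward along a closed immersion

`i : Z ⟶ X` a closed immersion with `i_* O_Z` `c`-pseudo-coherent, `E ∈ D(O_Z)` acyclic above `b`.

* `push_of_le`: `c ≤ m - b` and `E` `m`-pseudo-coherent give `i_* E` `m`-pseudo-coherent.
* `pull_of_le`: `c ≤ m + 1 - b` and `i_* E` `m`-pseudo-coherent give `E` `m`-pseudo-coherent.
-/

set_option autoImplicit false
universe u

open CategoryTheory CategoryTheory.Limits AlgebraicGeometry DerivedCategory Pretriangulated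
open Groth.Agent Groth.Agent.PerfA Groth.Agent.PerfA.Restrict Groth.Agent.PerfC.PcLocal
open Groth.Agent.PerfC.DerAux Groth.Agent.PerfC.PcShift
open Groth.Agent.PerfC.ClosedPush Groth.Agent.PerfC.PCCover Groth.Agent.PerfC.PcPush
open Groth.Agent.PerfC.ClosedImmPc

attribute [local instance] HasDerivedCategory.standard

namespace K239.GradedPush

section

variable {X Z : Scheme.{u}}

/-- The direct image of the structure sheaf is `c`-pseudo-coherent. -/
def POc (c : ℤ) (i : Z ⟶ X) : Prop :=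
  DCoh.IsPseudoCoherentD c (DCoh.inD X ((Scheme.Modules.pushforward i).obj (Coh.structureModule Z)))

lemma POc.restrict {c : ℤ} {i : Z ⟶ X} [IsClosedImmersion i] (h : POc c i) (V : X.Opens) : POc c (i ∣_ V) :=
  pc_of_iso (pushUnitRestrict i V) (pc_restrict V.ι h)

lemma POc.mono {c d : ℤ} {i : Z ⟶ X} (h : POc c i) (hcd : c ≤ d) : POc d i := pc_mono hcd h

/-- If `F(O_Z)` is `c`-pseudo-coherent, `F(O_Z^n)[-p]` is `(c + p)`-pseudo-coherent. -/
lemma pc_map_single_freeMod_of_le (F : Z.Modules ⥤ X.Modules) [F.Additive] [PreservesFiniteLimits F]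
    [PreservesFiniteColimits F] {c : ℤ} (hO : DCoh.IsPseudoCoherentD c
      (DCoh.inD X (F.obj (Coh.structureModule Z)))) (n : ℕ) {p m : ℤ} (hm : c + p ≤ m) :
    DCoh.IsPseudoCoherentD m
      (F.mapDerivedCategory.obj ((singleFunctor Z.Modules p).obj (FlatMod.freeMod Z n))) := by
  have key : DCoh.IsPseudoCoherentD c (DCoh.inD X (F.obj (FlatMod.freeMod Z n))) := by
    refine PerfC.SigmaInd.sigma_fin (fun A => DCoh.IsPseudoCoherentD c
      (DCoh.inD X (F.obj A))) ?_ ?_ ?_ n _ (fun _ => hO)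
    · intro A B e h
      exact pc_of_iso ((singleFunctor _ 0).mapIso (F.mapIso e)) h
    · intro A hA
      exact pc_of_isZero (Functor.map_isZero _ (Functor.map_isZero _ hA)) c
    · intro A B hA hB
      have : PreservesBinaryBiproducts (F ⋙ singleFunctor X.Modules 0) :=
        preservesBinaryBiproducts_of_preservesBiproducts _
      exact pc_of_iso ((F ⋙ singleFunctor X.Modules 0).mapBiprod A B).symm
        (pc_biprod hA hB)
  refine pc_mono hm (pc_of_iso ((F.mapDerivedCategorySingleFunctor p).symm.app _)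
    ((pc_single_iff (F.obj (FlatMod.freeMod Z n)) (n := c) (by lia)).2 key))

end

/-- Locality on the target for the pushforward direction. -/
lemma push_of_local {X Z : Scheme.{u}} (i : Z ⟶ X) [IsClosedImmersion i] {m : ℤ} (E : DCoh.D Z)
    (h : ∀ z : Z, ∃ V : X.Opens, i z ∈ V ∧
        DCoh.IsPseudoCoherentD m ((pushD (i ∣_ V)).obj ((restrictD (i ⁻¹ᵁ V).ι).obj E))) :
    DCoh.IsPseudoCoherentD m ((pushD i).obj E) := by
  refine pc_of_cover _ fun x => ?_
  by_cases hx : x ∈ Set.range i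
  · obtain ⟨z, rfl⟩ := hx
    obtain ⟨V, hV, hV'⟩ := h z
    exact ⟨V, V.ι, inferInstance, ⟨i z, hV⟩, rfl, pc_of_iso ((pushDRestrict i V).symm.app E) hV'⟩
  · let V : X.Opens := ⟨(Set.range i)ᶜ, i.isClosedEmbedding.isClosed_range.isOpen_compl⟩
    refine ⟨V, V.ι, inferInstance, ⟨x, hx⟩, rfl, pc_of_isZero ?_ m⟩
    have h0 : IsEmpty (i ⁻¹ᵁ V : Z.Opens).toScheme := ⟨fun z => z.2 ⟨z.1, rfl⟩⟩
    exact ((pushD (i ∣_ V)).map_isZero (isZero_of_isEmpty h0 _)).of_iso
      ((pushDRestrict i V).app E)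

/-- Locality on the target for the other direction. -/
lemma pull_of_local {X Z : Scheme.{u}} (i : Z ⟶ X) [IsClosedImmersion i] {m : ℤ} (E : DCoh.D Z)
    (h : ∀ z : Z, ∃ V : X.Opens, i z ∈ V ∧ DCoh.IsPseudoCoherentD m ((restrictD (i ⁻¹ᵁ V).ι).obj E)) :
    DCoh.IsPseudoCoherentD m E := by
  refine pc_of_cover _ fun z => ?_
  obtain ⟨V, hV, hV'⟩ := h z
  exact ⟨(i ⁻¹ᵁ V : Z.Opens), (i ⁻¹ᵁ V).ι, inferInstance, ⟨z, hV⟩, rfl, hV'⟩

/-- The common step: near a point of `Z`, a triangle `O^n[-p] ⟶ E ⟶ C` with `C` acyclic in degrees `≥ p`. -/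
lemma exists_step {X Z : Scheme.{u}} (i : Z ⟶ X) [IsClosedImmersion i] {m p : ℤ} (hmp : m ≤ p) (E : DCoh.D Z)
    (hE : E.IsLE p) (h : DCoh.IsPseudoCoherentD m E ∨ DCoh.IsPseudoCoherentD m ((pushD i).obj E)) (z : Z) :
    ∃ V : X.Opens, i z ∈ V ∧ ∃ (n : ℕ) (C : DCoh.D (i ⁻¹ᵁ V : Z.Opens).toScheme)
      (α : (singleFunctor _ p).obj (FlatMod.freeMod (i ⁻¹ᵁ V : Z.Opens).toScheme n) ⟶ (restrictD (i ⁻¹ᵁ V).ι).obj E)
      (β : (restrictD (i ⁻¹ᵁ V).ι).obj E ⟶ C)
      (γ : C ⟶ ((singleFunctor _ p).obj (FlatMod.freeMod (i ⁻¹ᵁ V : Z.Opens).toScheme n))⟦(1 : ℤ)⟧),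
      Triangle.mk α β γ ∈ distinguishedTriangles ∧ C.IsLE (p - 1) := by
  obtain ⟨W, hzW, hW⟩ := exists_cover_of_local_epi E p z (exists_local_epi i hmp E hE h z)
  obtain ⟨V, hzV, -, hVW⟩ := exists_preimage_open i W z hzW ⊤ trivial
  have hC := hW.mono hVW
  have : ((restrictD (i ⁻¹ᵁ V).ι).obj E).IsLE p := ExactD.isLE_map _ E _
  obtain ⟨n, C, α, β, γ, hT, hCle⟩ := hC.exists_triangle (q := p - 1) (by ring)
  exact ⟨V, hzV, n, C, α, β, γ, hT, hCle⟩

theorem push_of_isLE (k : ℕ) : ∀ {X Z : Scheme.{u}} (i : Z ⟶ X) [IsClosedImmersion i] {c : ℤ} (_ : POc c i)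
    (_ : c ≤ 1 - k) (E : DCoh.D Z) (m : ℤ) (_ : E.IsLE (m - 1 + k)) (_ : DCoh.IsPseudoCoherentD m E),
    DCoh.IsPseudoCoherentD m ((pushD i).obj E) := by
  induction k with
  | zero =>
    intro X Z i _ c _ _ E m hE _
    have := isLE_pushD i E _ hE
    exact pc_of_vanish fun j hj => isZero_of_isLE _ (m - 1 + (0 : ℕ)) j (by push_cast; lia)
  | succ k ih =>
    intro X Z i _ c hO hc E m hE h
    have hE' : E.IsLE (m + k) := by
      have : m - 1 + ((k + 1 : ℕ) : ℤ) = m + k := by push_cast; ring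
      rwa [this] at hE
    push_cast at hc
    refine push_of_local i E fun z => ?_
    obtain ⟨V, hzV, n, C, α, β, γ, hT, hCle⟩ := exists_step i (p := m + k) (by lia) E hE' (Or.inl h) z
    refine ⟨V, hzV, ?_⟩
    have hC : DCoh.IsPseudoCoherentD m C :=
      (S0889.result m _ hT).1 (pc_single_freeMod n (m + k) (m + 1)) (pc_restrict _ h)
    have h1 : DCoh.IsPseudoCoherentD m ((pushD (i ∣_ V)).obj C) :=
      ih (i ∣_ V) (hO.restrict V) (by lia) C m (by rwa [show m - 1 + (k : ℤ) = m + k - 1 by ring]) hC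
    have h2 : DCoh.IsPseudoCoherentD m ((pushD (i ∣_ V)).obj
        ((singleFunctor _ (m + k)).obj (FlatMod.freeMod (i ⁻¹ᵁ V : Z.Opens).toScheme n))) :=
      pc_map_single_freeMod_of_le (Scheme.Modules.pushforward (i ∣_ V)) (hO.restrict V) n (by lia)
    exact (S0889.result m _ ((pushD (i ∣_ V)).map_distinguished _ hT)).2.1 h2 h1

theorem pull_of_isLE (k : ℕ) : ∀ {X Z : Scheme.{u}} (i : Z ⟶ X) [IsClosedImmersion i] {c : ℤ} (_ : POc c i)
    (_ : c ≤ 2 - k) (E : DCoh.D Z) (m : ℤ) (_ : E.IsLE (m - 1 + k))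
    (_ : DCoh.IsPseudoCoherentD m ((pushD i).obj E)), DCoh.IsPseudoCoherentD m E := by
  induction k with
  | zero =>
    intro X Z i _ c _ _ E m hE _
    exact pc_of_vanish fun j hj => isZero_of_isLE _ (m - 1 + (0 : ℕ)) j (by push_cast; lia)
  | succ k ih =>
    intro X Z i _ c hO hc E m hE h
    have hE' : E.IsLE (m + k) := by
      have : m - 1 + ((k + 1 : ℕ) : ℤ) = m + k := by push_cast; ring
      rwa [this] at hE
    push_cast at hc
    refine pull_of_local i E fun z => ?_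
    obtain ⟨V, hzV, n, C, α, β, γ, hT, hCle⟩ := exists_step i (p := m + k) (by lia) E hE' (Or.inr h) z
    refine ⟨V, hzV, ?_⟩
    have h2 : DCoh.IsPseudoCoherentD (m + 1) ((pushD (i ∣_ V)).obj
        ((singleFunctor _ (m + k)).obj (FlatMod.freeMod (i ⁻¹ᵁ V : Z.Opens).toScheme n))) :=
      pc_map_single_freeMod_of_le (Scheme.Modules.pushforward (i ∣_ V)) (hO.restrict V) n (by lia)
    have h1 : DCoh.IsPseudoCoherentD m ((pushD (i ∣_ V)).obj C) :=
      (S0889.result m _ ((pushD (i ∣_ V)).map_distinguished _ hT)).1 h2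
        (pc_of_iso ((pushDRestrict i V).app E) (pc_restrict V.ι h))
    have hC : DCoh.IsPseudoCoherentD m C :=
      ih (i ∣_ V) (hO.restrict V) (by lia) C m (by rwa [show m - 1 + (k : ℤ) = m + k - 1 by ring]) h1
    exact (S0889.result m _ hT).2.1 (pc_single_freeMod n (m + k) m) hC

/-- `i_* O_Z` `c`-pseudo-coherent, `E` acyclic above `b` and `m`-pseudo-coherent, `c ≤ m - b`:
then `i_* E` is `m`-pseudo-coherent. -/
theorem push_of_le {X Z : Scheme.{u}} (i : Z ⟶ X) [IsClosedImmersion i] {c b m : ℤ} (hO : POc c i)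
    (hc : c ≤ m - b) (E : DCoh.D Z) [E.IsLE b] (h : DCoh.IsPseudoCoherentD m E) :
    DCoh.IsPseudoCoherentD m ((pushD i).obj E) := by
  by_cases hb : b < m
  · have := isLE_pushD i E b inferInstance
    exact pc_of_vanish fun j hj => isZero_of_isLE _ b j (by lia)
  · obtain ⟨k, hk⟩ := Int.eq_ofNat_of_zero_le (show 0 ≤ b - m + 1 by lia)
    exact push_of_isLE k i hO (by lia) E m (by rwa [show m - 1 + (k : ℤ) = b by lia]) h

/-- `i_* O_Z` `c`-pseudo-coherent, `E` acyclic above `b`, `i_* E` `m`-pseudo-coherent, `c ≤ m + 1 - b`: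
then `E` is `m`-pseudo-coherent. -/
theorem pull_of_le {X Z : Scheme.{u}} (i : Z ⟶ X) [IsClosedImmersion i] {c b m : ℤ} (hO : POc c i)
    (hc : c ≤ m + 1 - b) (E : DCoh.D Z) [E.IsLE b] (h : DCoh.IsPseudoCoherentD m ((pushD i).obj E)) :
    DCoh.IsPseudoCoherentD m E := by
  by_cases hb : b < m
  · exact pc_of_vanish fun j hj => isZero_of_isLE _ b j (by lia)
  · obtain ⟨k, hk⟩ := Int.eq_ofNat_of_zero_le (show 0 ≤ b - m + 1 by lia)
    exact pull_of_isLE k i hO (by lia) E m (by rwa [show m - 1 + (k : ℤ) = b by lia]) h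

end K239.GradedPush
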