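import Groth.Agent.KSix.K240.RelBasic
import Groth.Agent.KSix.K239.GradedPush
import Groth.Agent.PerfC.PcDesc
import Groth.Agent.CohqA.AffineBaseChange
import Groth.Agent.PerfA.QCohSerre

/-!
# Graded pseudo-coherence relative to a composite morphism

`f : X ⟶ Y`, `g : Y ⟶ Z` locally of finite type, `g` `c`-pseudo-coherent, `E ∈ D(O_X)` acyclic above `b`.

* `rel_of_comp`: `c ≤ a + 1 - b` and `E` `a`-pseudo-coherent relative to `f ≫ g` give `E` `a`-pseudo-coherent
  relative to `f`.
* `rel_comp`: `c ≤ a - b` and `E` `a`-pseudo-coherent relative to `f` give `E` `a`-pseudo-coherent relative to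
  `f ≫ g`.
-/

set_option autoImplicit false
universe u
open CategoryTheory CategoryTheory.Limits AlgebraicGeometry
open Groth.Agent Groth.Agent.PerfA Groth.Agent.PerfA.Restrict Groth.Agent.PerfC.PcLocal
open Groth.Agent.PerfC.ClosedImmPc K240.PushTest K240.ChartChange K240.RelData K240.RelChart
open K240.RelBasic K239.GradedPush
attribute [local instance] HasDerivedCategory.standard

namespace K239.GradedComp

/-- Flat base change of the direct image of the structure sheaf along a closed immersion. -/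
theorem POc_of_isPullback {X Y X' Y' : Scheme.{u}} {g' : X' ⟶ X} {f' : X' ⟶ Y'} {f : X ⟶ Y} {g : Y' ⟶ Y}
    (sq : IsPullback g' f' f g) [IsClosedImmersion f] [Flat g] {c : ℤ} (h : POc c f) : POc c f' := by
  have := PerfC.FlatExact.preservesFiniteLimits_pullback g
  have hq : (Coh.structureModule X).IsQuasicoherent := PerfA.QCohSerre.isQCoh_unit X
  obtain ⟨e⟩ := CohqA.AffineBaseChange.nonempty_iso sq (Coh.structureModule X)
  refine pc_of_iso ?_ (PerfC.PcDesc.pc_pullD g _ c h)
  exact ((Scheme.Modules.pullback g).mapDerivedCategorySingleFunctor 0).app _ ≪≫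
    (DerivedCategory.singleFunctor _ 0).mapIso
      (e ≪≫ (Scheme.Modules.pushforward f').mapIso (PerfC.PullRestrict.pullbackUnit g'))

/-- The test of a datum on the structure sheaf. -/
noncomputable def unitIso {W P X : Scheme.{u}} (j : W ⟶ X) [IsOpenImmersion j] (i : W ⟶ P) [IsClosedImmersion i] :
    (pushD i).obj ((restrictD j).obj (DCoh.toD X (DerSch.unitCx X))) ≅
      DCoh.inD P ((Scheme.Modules.pushforward i).obj (Coh.structureModule W)) :=
  (pushD i).mapIso ((restrictD j).mapIso
      ((DerivedCategory.singleFunctorIsoCompQ X.Modules 0).app (Coh.structureModule X)).symm ≪≫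
      PerfA.PerfLocal.restrictInD j _ ≪≫
      (DerivedCategory.singleFunctor _ 0).mapIso (Scheme.Modules.restrictUnitIso j)) ≪≫
    ((Scheme.Modules.pushforward i).mapDerivedCategorySingleFunctor 0).app _

theorem POc_of_isNPseudoCoherent {Y Z : Scheme.{u}} {g : Y ⟶ Z} {c : ℤ} (h : DerSch.IsNPseudoCoherent g c)
    (D : Datum g) : POc c D.i :=
  pc_of_iso (unitIso D.j D.i) (test_of_isPseudoCoherentRel h D)

section

variable {X Y Z : Scheme.{u}}

/-- A pair of data, for `f` and for `f ≫ g`, on the same open piece, and a closed immersion of the ambient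
schemes. -/
structure Pair (f : X ⟶ Y) (g : Y ⟶ Z) where
  /-- the open piece -/
  W : Scheme.{u}
  /-- the ambient scheme over `Y` -/
  P : Scheme.{u}
  /-- the ambient scheme over `Z` -/
  Q : Scheme.{u}
  /-- the open immersion -/
  j : W ⟶ X
  /-- the first closed immersion -/
  i : W ⟶ P
  /-- the second closed immersion -/
  k : P ⟶ Q
  /-- the structure morphism -/
  p : P ⟶ Y
  /-- the structure morphism -/
  q : Q ⟶ Z
  open_j : IsOpenImmersion j
  closed_i : IsClosedImmersion i
  closed_k : IsClosedImmersion k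
  flat_p : Flat p
  fp_p : LocallyOfFinitePresentation p
  flat_q : Flat q
  fp_q : LocallyOfFinitePresentation q
  w₁ : i ≫ p = j ≫ f
  w₂ : (i ≫ k) ≫ q = j ≫ f ≫ g

attribute [instance] Pair.open_j Pair.closed_i Pair.closed_k Pair.flat_p Pair.fp_p Pair.flat_q Pair.fp_q

variable {f : X ⟶ Y} {g : Y ⟶ Z}

/-- The datum for `f`. -/
def Pair.fst (D : Pair f g) : Datum f where
  W := D.W
  P := D.P
  j := D.j
  i := D.i
  p := D.p
  open_j := D.open_j
  closed_i := D.closed_i
  flat_p := D.flat_p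
  fp_p := D.fp_p
  w := D.w₁

/-- The datum for `f ≫ g`. -/
def Pair.snd (D : Pair f g) : Datum (f ≫ g) where
  W := D.W
  P := D.Q
  j := D.j
  i := D.i ≫ D.k
  p := D.q
  open_j := D.open_j
  closed_i := inferInstance
  flat_p := D.flat_q
  fp_p := D.fp_q
  w := D.w₂

lemma Pair.snd_test_iff (D : Pair f g) (m : ℤ) (K : DCoh.D X) :
    D.snd.test m K ↔ DCoh.IsPseudoCoherentD m ((pushD D.k).obj ((pushD D.i).obj ((restrictD D.j).obj K))) :=
  ⟨pc_of_iso ((pushDComp D.i D.k).symm.app _), pc_of_iso ((pushDComp D.i D.k).app _)⟩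

lemma Pair.isLE (D : Pair f g) {b : ℤ} (K : DCoh.D X) [K.IsLE b] :
    ((pushD D.i).obj ((restrictD D.j).obj K)).IsLE b := by
  have : ((restrictD D.j).obj K).IsLE b := ExactD.isLE_map _ K _
  exact isLE_pushD _ _ _ this

lemma Pair.fst_test_of_snd_test (D : Pair f g) {a b c : ℤ} (hO : POc c D.k) (hc : c ≤ a + 1 - b) (K : DCoh.D X)
    [K.IsLE b] (h : D.snd.test a K) : D.fst.test a K := by
  have := D.isLE (b := b) K
  change DCoh.IsPseudoCoherentD a ((pushD D.i).obj ((restrictD D.j).obj K))
  exact pull_of_le D.k hO hc _ ((D.snd_test_iff a K).1 h)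

lemma Pair.snd_test_of_fst_test (D : Pair f g) {a b c : ℤ} (hO : POc c D.k) (hc : c ≤ a - b) (K : DCoh.D X)
    [K.IsLE b] (h : D.fst.test a K) : D.snd.test a K := by
  have := D.isLE (b := b) K
  have h' : DCoh.IsPseudoCoherentD a ((pushD D.i).obj ((restrictD D.j).obj K)) := h
  exact (D.snd_test_iff a K).2 (push_of_le D.k hO hc _ h')

/-- Every point lies in a pair of data such that the direct image of the structure sheaf along the closed
immersion of ambient schemes is as pseudo-coherent as `g` is. -/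
theorem exists_pair (f : X ⟶ Y) (g : Y ⟶ Z) [LocallyOfFiniteType f] [LocallyOfFiniteType g] (x : X) :
    ∃ (D : Pair f g) (w : D.W), D.j w = x ∧ ∀ c : ℤ, DerSch.IsNPseudoCoherent g c → POc c D.k := by
  obtain ⟨Dg, w, hw, -, -⟩ := exists_datum g (f x) ⊤ trivial
  let V : Y.Opens := Dg.j.opensRange
  let U₀ : X.Opens := f ⁻¹ᵁ V
  have hr : Set.range (U₀.ι ≫ f) ⊆ Set.range Dg.j := by
    rintro _ ⟨y, rfl⟩
    rw [Scheme.Hom.comp_apply]
    exact y.2
  let f₀ : U₀.toScheme ⟶ Dg.W := IsOpenImmersion.lift Dg.j (U₀.ι ≫ f) hr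
  have hf₀ : f₀ ≫ Dg.j = U₀.ι ≫ f := IsOpenImmersion.lift_fac _ _ _
  have hft : LocallyOfFiniteType f₀ := by
    have : LocallyOfFiniteType (f₀ ≫ Dg.j) := by rw [hf₀]; infer_instance
    exact locallyOfFiniteType_of_comp f₀ Dg.j
  have hx : x ∈ U₀ := ⟨w, hw⟩
  obtain ⟨D'', w'', hw'', -, -⟩ := exists_datum (f₀ ≫ Dg.i) ⟨x, hx⟩ ⊤ trivial
  let i₁ : D''.W ⟶ pullback Dg.i D''.p :=
    pullback.lift (D''.j ≫ f₀) D''.i (by rw [D''.w, Category.assoc])
  have e1 : i₁ ≫ pullback.fst Dg.i D''.p = D''.j ≫ f₀ := pullback.lift_fst _ _ _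
  have e2 : i₁ ≫ pullback.snd Dg.i D''.p = D''.i := pullback.lift_snd _ _ _
  have hi₁ : IsClosedImmersion i₁ := by
    have : IsClosedImmersion (i₁ ≫ pullback.snd Dg.i D''.p) := by rw [e2]; infer_instance
    exact IsClosedImmersion.of_comp i₁ (pullback.snd Dg.i D''.p)
  let D : Pair f g :=
    { W := D''.W
      P := pullback Dg.i D''.p
      Q := D''.P
      j := D''.j ≫ U₀.ι
      i := i₁
      k := pullback.snd Dg.i D''.p
      p := pullback.fst Dg.i D''.p ≫ Dg.j
      q := D''.p ≫ Dg.p
      open_j := inferInstance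
      closed_i := hi₁
      closed_k := inferInstance
      flat_p := inferInstance
      fp_p := inferInstance
      flat_q := inferInstance
      fp_q := inferInstance
      w₁ := by rw [← Category.assoc, e1, Category.assoc, hf₀, Category.assoc]
      w₂ := by
        rw [e2, ← Category.assoc, D''.w, Category.assoc, Category.assoc, Dg.w, ← Category.assoc f₀, hf₀,
          Category.assoc, Category.assoc] }
  refine ⟨D, w'', ?_, fun c hc => ?_⟩
  · change (D''.j ≫ U₀.ι) w'' = x
    rw [Scheme.Hom.comp_apply, hw'']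
    rfl
  · exact POc_of_isPullback (IsPullback.of_hasPullback Dg.i D''.p) (POc_of_isNPseudoCoherent hc Dg)

/-- Pseudo-coherence relative to `f ≫ g` and `c`-pseudo-coherence of `g` give pseudo-coherence relative to `f`. -/
theorem rel_of_comp [LocallyOfFiniteType f] [LocallyOfFiniteType g] {a b c : ℤ} (K : DCoh.D X) [K.IsLE b]
    (h : DerSch.IsPseudoCoherentRel (f ≫ g) a K) (hg : DerSch.IsNPseudoCoherent g c) (hc : c ≤ a + 1 - b) :
    DerSch.IsPseudoCoherentRel f a K := by
  refine isPseudoCoherentRel_of_data fun x => ?_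
  obtain ⟨D, w, hw, hD⟩ := exists_pair f g x
  exact ⟨D.fst, w, hw, D.fst_test_of_snd_test (hD c hg) hc K (test_of_isPseudoCoherentRel h D.snd)⟩

/-- Pseudo-coherence relative to `f` and `c`-pseudo-coherence of `g` give pseudo-coherence relative to `f ≫ g`. -/
theorem rel_comp [LocallyOfFiniteType f] [LocallyOfFiniteType g] {a b c : ℤ} (K : DCoh.D X) [K.IsLE b]
    (h : DerSch.IsPseudoCoherentRel f a K) (hg : DerSch.IsNPseudoCoherent g c) (hc : c ≤ a - b) :
    DerSch.IsPseudoCoherentRel (f ≫ g) a K := by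
  refine isPseudoCoherentRel_of_data fun x => ?_
  obtain ⟨D, w, hw, hD⟩ := exists_pair f g x
  exact ⟨D.snd, w, hw, D.snd_test_of_fst_test (hD c hg) hc K (test_of_isPseudoCoherentRel h D.fst)⟩

end

end K239.GradedComp
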