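import Groth.Agent.KSix.K239.PushFlat
import Groth.Agent.KSix.K239.FlatFPSch
import Groth.Agent.KSix.K239.StalkAmp
import Groth.Agent.KSix.K240.RelBasic
import Groth.Agent.S0890

/-!
# Modules flat over the base and finitely presented relative to a morphism

* `flat_of_at_single`: tor amplitude in `[0, 0]` of a module at `x` gives flatness at `x`.
* `testSingleIso`: the test object of a module in degree `0`.
* `isFP_of_pc`: a `(-1)`-pseudo-coherent module is of finite presentation.
* `isPseudoCoherentRelAll_of_flat`: modules which are flat over the base and finitely presented relative to `f` are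
  pseudo-coherent relative to `f`.
-/

set_option autoImplicit false
universe u

open AlgebraicGeometry CategoryTheory CategoryTheory.Limits
open Groth.Agent Groth.Agent.PerfA Groth.Agent.PerfA.Restrict Groth.Agent.PerfC.PcLocal
open Groth.Agent.PerfC.ClosedImmPc K240.PushTest K240.RelData K240.RelChart

attribute [local instance] HasDerivedCategory.standard

namespace K239.RelFP

section Alg

variable {C : Type*} [Category C] [Abelian C]

/-- the homology of a complex whose neighbouring terms vanish -/
noncomputable def xIsoHomology (K : CochainComplex C ℤ) (a : ℤ) (h1 : IsZero (K.X (a - 1)))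
    (h2 : IsZero (K.X (a + 1))) : K.X a ≅ K.homology a :=
  (K.iCyclesIso a (a + 1) (by simp) (h2.eq_of_tgt _ _)).symm ≪≫
    K.isoHomologyπ (a - 1) a (by simp) (h1.eq_of_src _ _)

end Alg

theorem flat_of_iso {A : Type u} [CommRing A] {M N : ModuleCat.{u} A} (e : M ≅ N) (h : Module.Flat A M) :
    Module.Flat A N :=
  Module.Flat.of_linearEquiv e.symm.toLinearEquiv

section Single

variable {X Y : Scheme.{u}}

/-- a module as a complex in degree `0` -/
noncomputable abbrev sgl (M : X.Modules) : CochainComplex X.Modules ℤ :=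
  (HomologicalComplex.single _ (ComplexShape.up ℤ) 0).obj M

theorem flat_of_at_single (f : X ⟶ Y) (M : X.Modules) (x : X)
    (h : DerSch.HasTorAmplitudeAt f 0 0 (sgl M) x) : FlatMod.IsFlatOverAt f M x := by
  obtain ⟨E, h1, h2, ⟨e⟩⟩ := h
  let G := (DerSch.stalkCxOver f x).obj (sgl M)
  have e1 : E.homology 0 ≅ G.homology 0 :=
    ((DerivedCategory.homologyFunctorFactors _ 0).app E).symm ≪≫ (DerivedCategory.homologyFunctor _ 0).mapIso e ≪≫
      (DerivedCategory.homologyFunctorFactors _ 0).app G
  have e2 : G.homology 0 ≅ (DerSch.stalkOver f x).obj M :=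
    (HomologicalComplex.homologyFunctor _ _ 0).mapIso
      ((HomologicalComplex.singleMapHomologicalComplex (DerSch.stalkOver f x) (ComplexShape.up ℤ) 0).app M) ≪≫
      (HomologicalComplex.homologyFunctorSingleIso _ (ComplexShape.up ℤ) 0).app _
  have e3 : E.X 0 ≅ E.homology 0 := xIsoHomology E 0 (h1 _ (by omega)) (h1 _ (by omega))
  have : Module.Flat _ (E.X 0) := h2 0
  rw [← StalkAmp.flat_stalkOver_iff]
  exact Module.Flat.of_linearEquiv (e3 ≪≫ e1 ≪≫ e2).symm.toLinearEquiv

theorem at_single_of_flat (f : X ⟶ Y) (M : X.Modules) (x : X) (h : FlatMod.IsFlatOverAt f M x) :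
    DerSch.HasTorAmplitudeAt f 0 0 (sgl M) x := by
  refine ⟨(HomologicalComplex.single _ (ComplexShape.up ℤ) 0).obj ((DerSch.stalkOver f x).obj M), ?_, ?_, ?_⟩
  · intro i hi
    exact HomologicalComplex.isZero_single_obj_X _ _ _ _ (by omega)
  · intro i
    by_cases hi : i = 0
    · subst hi
      exact flat_of_iso
        (HomologicalComplex.singleObjXSelf (ComplexShape.up ℤ) 0 ((DerSch.stalkOver f x).obj M)).symm h
    · have h0 : IsZero (((HomologicalComplex.single _ (ComplexShape.up ℤ) 0).obj
          ((DerSch.stalkOver f x).obj M)).X i) :=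
        HomologicalComplex.isZero_single_obj_X _ _ _ _ hi
      have := ModuleCat.subsingleton_of_isZero h0
      infer_instance
  · exact ⟨DerivedCategory.Q.mapIso
      ((HomologicalComplex.singleMapHomologicalComplex (DerSch.stalkOver f x) (ComplexShape.up ℤ) 0).app M).symm⟩

theorem hasTorAmplitude_single_iff (f : X ⟶ Y) (M : X.Modules) :
    DerSch.HasTorAmplitude f 0 0 (sgl M) ↔ FlatMod.IsFlatOver f M :=
  ⟨fun h x => flat_of_at_single f M x (h x), fun h x => at_single_of_flat f M x (h x)⟩

/-- the two forms of a module in degree `0` -/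
noncomputable def toDSgl (M : X.Modules) : DCoh.toD X (sgl M) ≅ DCoh.inD X M :=
  ((DerivedCategory.singleFunctorIsoCompQ X.Modules 0).app M).symm

theorem isZero_hd_inD (M : X.Modules) (j : ℤ) (hj : j ≠ 0) : IsZero (DCoh.HD (DCoh.inD X M) j) := by
  refine IsZero.of_iso ?_ ((DerivedCategory.homologyFunctor X.Modules j).mapIso
    ((DerivedCategory.singleFunctorIsoCompQ X.Modules 0).app M) ≪≫
      (DerivedCategory.homologyFunctorFactors X.Modules j).app (sgl M))
  exact HomologicalComplex.isZero_single_obj_homology _ _ _ _ hj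

noncomputable def hd0_inD (M : X.Modules) : DCoh.HD (DCoh.inD X M) 0 ≅ M :=
  (DerivedCategory.homologyFunctor X.Modules 0).mapIso
    ((DerivedCategory.singleFunctorIsoCompQ X.Modules 0).app M) ≪≫
      (DerivedCategory.homologyFunctorFactors X.Modules 0).app (sgl M) ≪≫
      (HomologicalComplex.homologyFunctorSingleIso X.Modules (ComplexShape.up ℤ) 0).app M

theorem isFP_of_pc (M : X.Modules) (h : DCoh.IsPseudoCoherentD (-1) (DCoh.inD X M)) : CohB1.IsFP M :=
  PerfC.FPSections.isFP_of_iso (hd0_inD M)
    ((S0890.result (-1) _ h).2 fun i hi => isZero_hd_inD M i (by omega))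

end Single

section Rel

variable {X Y : Scheme.{u}} {f : X ⟶ Y}

/-- The test object of a module in degree `0`. -/
noncomputable def testSingleIso (D : Datum f) (M : X.Modules) :
    (pushD D.i).obj ((restrictD D.j).obj (DCoh.toD X (sgl M))) ≅
      DCoh.inD D.P ((Scheme.Modules.pushforward D.i).obj (M.restrict D.j)) :=
  (pushD D.i).mapIso ((restrictD D.j).mapIso (toDSgl M) ≪≫ PerfLocal.restrictInD D.j M) ≪≫
    ((Scheme.Modules.pushforward D.i).mapDerivedCategorySingleFunctor 0).app _

theorem test_single_iff (D : Datum f) (M : X.Modules) (m : ℤ) :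
    D.test m (DCoh.toD X (sgl M)) ↔
      DCoh.IsPseudoCoherentD m (DCoh.inD D.P ((Scheme.Modules.pushforward D.i).obj (M.restrict D.j))) :=
  ⟨pc_of_iso (testSingleIso D M), pc_of_iso (testSingleIso D M).symm⟩

theorem flatAt_datum_iff (D : Datum f) (M : X.Modules) (w : D.W) :
    FlatMod.IsFlatOverAt D.p ((Scheme.Modules.pushforward D.i).obj (M.restrict D.j)) (D.i w) ↔
      FlatMod.IsFlatOverAt f M (D.j w) := by
  rw [PushFlat.flatAt_push_iff D.i D.i.isClosedEmbedding.isInducing, D.w,
    Ega3B.FlatRestrict.isFlatOverAt_restrict_iff_comp]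

theorem isFlatOver_datum (D : Datum f) (M : X.Modules) (h : FlatMod.IsFlatOver f M) :
    FlatMod.IsFlatOver D.p ((Scheme.Modules.pushforward D.i).obj (M.restrict D.j)) := by
  rw [PushFlat.isFlatOver_push_iff, D.w]
  intro w
  rw [Ega3B.FlatRestrict.isFlatOverAt_restrict_iff_comp]
  exact h _

theorem isPseudoCoherentRelAll_of_flat [LocallyOfFiniteType f] (M : X.Modules) (hfl : FlatMod.IsFlatOver f M)
    (hfp : DerSch.IsPseudoCoherentRel f (-1) (DCoh.toD X (sgl M))) :
    DerSch.IsPseudoCoherentRelAll f (DCoh.toD X (sgl M)) := by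
  intro m
  rw [isPseudoCoherentRel_iff_forall] at hfp ⊢
  intro D
  rw [test_single_iff]
  exact FlatFP.pc_of_isFP_of_isFlatOver D.p _ (isFP_of_pc _ ((test_single_iff D M (-1)).1 (hfp D)))
    (isFlatOver_datum D M hfl) m

end Rel

end K239.RelFP
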