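import Groth.Agent.KSix.K238.FibrePerf
import Groth.Agent.S1005
import Groth.Agent.S1039
import Groth.Agent.S1535
import Groth.Agent.PerfA.PCohQCoh
import Groth.Agent.PerfC.PcLocal

/-!
# Relatively perfect complexes on a smooth scheme are perfect

* `isPerfect_of_regular`: on a locally Noetherian scheme with regular local rings, a pseudo-coherent object which is
  locally bounded below is perfect.
* `isPerfect_of_smooth`: let `g : Y ⟶ S` be smooth and `E` pseudo-coherent and locally of finite tor dimension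
  over `S`; then `E` is perfect.
-/

set_option autoImplicit false
universe u
open CategoryTheory CategoryTheory.Limits AlgebraicGeometry
attribute [local instance] HasDerivedCategory.standard

namespace K239.SmoothPerf

open Groth.Agent Groth.Agent.PerfA Groth.Agent.PerfA.Restrict Groth.Agent.PerfC.PcLocal

variable {X Y S : Scheme.{u}}

theorem isPerfect_of_regular [IsLocallyNoetherian X]
    (hreg : ∀ x : X, IsRegularLocalRing (X.presheaf.stalk x)) (K : DCoh.D X)
    (hpc : ∀ m : ℤ, DCoh.IsPseudoCoherentD m K)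
    (hb : ∀ x : X, ∃ (W : X.Opens) (a : ℤ), x ∈ W ∧ ((restrictD W.ι).obj K).IsGE a) : DCoh.IsPerfect K := by
  refine Dcoh.LocalD.isPerfect_of_cover fun x => ?_
  obtain ⟨W, a, hx, ha⟩ := hb x
  obtain ⟨U, hU, hxU, hUW⟩ := exists_isAffineOpen_mem_and_subset hx
  have hUW : U ≤ W := hUW
  refine ⟨U, U.ι, inferInstance, by simpa using hxU, ?_⟩
  have : IsAffine U := hU
  have : IsLocallyNoetherian U := inferInstance
  have : IsNoetherian (U : Scheme.{u}) := { }
  have e : (restrictD (X.homOfLE hUW)).obj ((restrictD W.ι).obj K) ≅ (restrictD U.ι).obj K :=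
    ((PerfC.PcLocal.restrictDComp (X.homOfLE hUW) W.ι).app K) ≪≫
      (PerfC.PcLocal.restrictDCongr (X.homOfLE_ι hUW)).app K
  have h1 : ((restrictD (X.homOfLE hUW)).obj ((restrictD W.ι).obj K)).IsGE a := ExactD.isGE_map _ _ _
  have h2 : ((restrictD U.ι).obj K).IsGE a := DerivedCategory.TStructure.t.isGE_of_iso e a
  have h3 : ∀ m : ℤ, DCoh.IsPseudoCoherentD m ((restrictD U.ι).obj K) := fun m => pc_restrict U.ι (hpc m)
  have h4 := PCohQCoh.isQCohD_of_isPseudoCoherentD h3
  obtain ⟨-, b, hb⟩ := (S1039.result _ _ h4 0).1 (h3 0)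
  have hr : ∀ y : (U : Scheme.{u}), IsRegularLocalRing ((U : Scheme.{u}).presheaf.stalk y) := fun y => by
    exact IsRegularLocalRing.of_ringEquiv (asIso (U.ι.stalkMap y)).commRingCatIsoToRingEquiv
  change DCoh.IsPerfect ((restrictD U.ι).obj K)
  exact S1005.result _ hr _ a b fun i => ((S1039.result _ _ h4 i).1 (h3 i)).1 i le_rfl

theorem isRegularLocalRing_fiber (g : Y ⟶ S) [Smooth g] (s : S) (y : ↥(g.fiber s)) :
    IsRegularLocalRing ((g.fiber s).presheaf.stalk y) := by
  let i1 : (g.fiber s).Over (Spec (CommRingCat.of (S.residueField s))) := ⟨g.fiberToSpecResidueField s⟩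
  have i2 : Smooth ((g.fiber s) ↘ Spec (CommRingCat.of (S.residueField s))) :=
    inferInstanceAs (Smooth (pullback.snd g (S.fromSpecResidueField s)))
  exact S1535.result (S.residueField s) (g.fiber s) y

theorem isPerfect_of_smooth (g : Y ⟶ S) [Smooth g] (E : DCoh.D Y) (hpc : ∀ m : ℤ, DCoh.IsPseudoCoherentD m E)
    (ht : DCoh.LocHasFiniteRelTorDim g E) : DCoh.IsPerfect E := by
  have : ∀ s, DCoh.HasLpull (g.fiberι s) := fun s => Dcoh.DerPull.hasLpull _
  refine K238.FibrePerf.isPerfect_of_fibres g E hpc ht fun s => ?_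
  have h1 := ((PerfC.RelPerf.relPerf_iff g PerfC.PullKFlat.exists_pullData E hpc).mp ht).2 s
  have : LocallyOfFiniteType (g.fiberToSpecResidueField s) :=
    inferInstanceAs (LocallyOfFiniteType (pullback.snd g (S.fromSpecResidueField s)))
  have : IsLocallyNoetherian (g.fiber s) := LocallyOfFiniteType.isLocallyNoetherian (g.fiberToSpecResidueField s)
  exact isPerfect_of_regular (isRegularLocalRing_fiber g s) _
    (fun m => PerfC.LpullPC.isPseudoCoherentD_lpull PerfC.PullKFlat.exists_pullData (g.fiberι s) m (hpc m)) h1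

end K239.SmoothPerf
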