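import Groth.Agent.DRing.K227.TorMore
import Groth.Agent.DRing.K227.FlatBC
import Groth.Agent.DRing.K232.TorBC
import Groth.Agent.LoccohB.LBC2
import Groth.Agent.Models.TorVan2
import Groth.Agent.CycA.TorRestr

/-!
# Tor amplitude over the base and tor independent base change, for rings

* `torAmp_restrict_lbc_of_flat`: tor amplitude over the base ring is preserved by flat extensions of the upper ring;
* `torAmp_cube`: tor amplitude over the base ring is preserved by tor independent base change (cube form);
* `tor_of_flat_ext`, `tor_of_flat_cube`: the vanishing of `Tor` needed for `torAmp_cube`.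
-/

set_option autoImplicit false
universe u

open CategoryTheory CategoryTheory.Limits TensorProduct MonoidalCategory

attribute [local instance] HasDerivedCategory.standard

namespace K239.TorCube

open DerivedCategory Groth.Agent DRing K227.PerfFlat K227.TorMore K227.KTen K227.TorCrit Groth.Agent.LoccohB
  Groth.Agent.Flat2C.TorAmpRestr

section Flat

variable {A B C : Type u} [CommRing A] [CommRing B] [CommRing C]

/-- Flat extensions of scalars preserve exactness in a degree. -/
theorem exactAt_ext_of_flat (ψ : B →+* C) (hψ : ψ.Flat) (K : Cx B) (i : ℤ) (h : K.ExactAt i) :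
    ((BCUnit.extCx ψ).obj K).ExactAt i := by
  have hex : PreservesFiniteLimits (ModuleCat.extendScalars.{u, u, u} ψ) :=
    ModuleCat.preservesFiniteLimits_extendScalars_of_flat hψ
  rw [HomologicalComplex.exactAt_iff_isZero_homology] at h ⊢
  exact ((ModuleCat.extendScalars.{u, u, u} ψ).map_isZero h).of_iso
    (ShortComplex.mapHomologyIso (K.sc i) (ModuleCat.extendScalars.{u, u, u} ψ))

/-- Tor amplitude over the base ring is preserved by flat extensions of the upper ring. -/
theorem torAmp_restrict_lbc_of_flat (φ : A →+* B) (ψ : B →+* C) (hψ : ψ.Flat) [HasLBaseChange ψ]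
    (K : Dual.D B) (a b : ℤ) (h : HasTorAmplitudeIn A a b ((restrictD φ).obj K)) :
    HasTorAmplitudeIn A a b ((restrictD (ψ.comp φ)).obj ((LBaseChange ψ).obj K)) := by
  obtain ⟨P, hP, ⟨e⟩⟩ := LTen.exists_kproj K
  have e1 : (LBaseChange ψ).obj K ≅ toD ((BCUnit.extCx ψ).obj P) :=
    (LBaseChange ψ).mapIso e.symm ≪≫ LBC.lbcQIso ψ P
  refine torAmp_of_iso ((restrictD _).mapIso e1.symm) ?_
  have h' := torAmp_of_iso ((restrictD φ).mapIso e.symm) h
  rw [torAmp_restrict_iff] at h' ⊢
  intro M N h1 h2 h3 i hi
  have h4 := exactAt_ext_of_flat ψ hψ _ i (h' M N h1 h2 h3 i hi)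
  have e3 := (LTenBC.extTenIso ψ P).app ((ProjF.extCx φ).obj N)
  have e4 := whiskerRightIso (extCxComp φ ψ N) ((BCUnit.extCx ψ).obj P)
  exact exactAt_of_iso (Q.mapIso (e3 ≪≫ e4.symm)).symm i h4

end Flat

section Tor

open Function

variable {A : Type u} [CommRing A]

/-- `Tor^A_p(C, T) = 0` implies `Tor^A_p(C, A') = 0` for `A'` flat over `T`. -/
theorem tor_of_flat_ext {T A' : Type u} [CommRing T] [CommRing A'] [Algebra A T] [Algebra A A'] [Algebra T A']
    [IsScalarTower A T A'] [Module.Flat T A'] (C : Type u) [AddCommGroup C] [Module A C] (p : ℕ)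
    (h : Subsingleton (DRing.Tor A (p + 1) C T)) : Subsingleton (DRing.Tor A (p + 1) C A') := by
  obtain ⟨e1⟩ := CycA.TorShift.comm (A := A) (p + 1) C T
  obtain ⟨e2⟩ := CycA.TorShift.comm (A := A) (p + 1) C A'
  have h1 : Subsingleton (DRing.Tor A (p + 1) T C) := e1.symm.toEquiv.subsingleton
  suffices h2 : Subsingleton (DRing.Tor A (p + 1) A' C) from e2.toEquiv.subsingleton
  let P : ProjectiveResolution (ModuleCat.of A C) := projectiveResolution (ModuleCat.of A C)
  rw [Groth.Agent.Flat2H.TorDim.subsingleton_tor_succ_iff (M := T) P p] at h1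
  rw [Groth.Agent.Flat2H.TorDim.subsingleton_tor_succ_iff (M := A') P p]
  let d₂ := (P.complex.d (p + 2) (p + 1)).hom
  let d₁ := (P.complex.d (p + 1) p).hom
  have h1' : Exact ((d₂.baseChange T)) ((d₁.baseChange T)) := h1
  have h3 : Exact ((d₂.baseChange T).lTensor A') ((d₁.baseChange T).lTensor A') :=
    Module.Flat.lTensor_exact A' h1'
  let e (X : Type u) [AddCommGroup X] [Module A X] : A' ⊗[T] (T ⊗[A] X) ≃ₗ[T] A' ⊗[A] X :=
    TensorProduct.AlgebraTensorModule.cancelBaseChange A T T A' X
  have key : ∀ {X Y : Type u} [AddCommGroup X] [Module A X] [AddCommGroup Y] [Module A Y] (d : X →ₗ[A] Y)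
      (z : A' ⊗[T] (T ⊗[A] X)), e Y ((d.baseChange T).lTensor A' z) = d.lTensor A' (e X z) := by
    intro X Y _ _ _ _ d z
    induction z using TensorProduct.induction_on with
    | zero => simp
    | add x y hx hy => simp only [map_add, hx, hy]
    | tmul a x =>
      induction x using TensorProduct.induction_on with
      | zero => simp
      | add x y hx hy => simp only [TensorProduct.tmul_add, map_add, hx, hy]
      | tmul t x => simp [e]
  change Exact (d₂.lTensor A') (d₁.lTensor A')
  intro z
  have hz := h3 ((e _).symm z)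
  constructor
  · intro h0
    have h5 : (d₁.baseChange T).lTensor A' ((e _).symm z) = 0 := by
      apply (e _).injective
      rw [key, LinearEquiv.apply_symm_apply, h0, map_zero]
    obtain ⟨w, hw⟩ := hz.1 h5
    refine ⟨e _ w, ?_⟩
    rw [← key, hw, LinearEquiv.apply_symm_apply]
  · rintro ⟨w, rfl⟩
    have h5 := h3 ((e _).symm (d₂.lTensor A' w))
    have h6 : (d₁.baseChange T).lTensor A' ((e _).symm (d₂.lTensor A' w)) = 0 := by
      refine h5.2 ⟨(e _).symm w, ?_⟩
      apply (e _).injective
      rw [key, LinearEquiv.apply_symm_apply, LinearEquiv.apply_symm_apply]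
    have h7 := congrArg (e _) h6
    rw [key, LinearEquiv.apply_symm_apply, map_zero] at h7
    exact h7

/-- Tor independence in a cube: `A ⊗_R B → A'` flat, `A` and `C` flat over `R`. -/
theorem tor_of_flat_cube {R B C A' : Type u} [CommRing R] [CommRing B] [CommRing C] [CommRing A'] [Algebra R A]
    [Algebra R B] [Algebra R C] [Algebra A C] [IsScalarTower R A C] [Algebra R A'] [Algebra A A'] [Algebra B A']
    [IsScalarTower R A A'] [IsScalarTower R B A'] [Module.Flat R A] [Module.Flat R C]
    (h : (Algebra.TensorProduct.productMap (IsScalarTower.toAlgHom R A A')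
      (IsScalarTower.toAlgHom R B A')).toRingHom.Flat) (p : ℕ) (hp : 1 ≤ p) :
    Subsingleton (DRing.Tor A p C A') := by
  obtain ⟨q, rfl⟩ : ∃ q, p = q + 1 := ⟨p - 1, by omega⟩
  let ψ := Algebra.TensorProduct.productMap (IsScalarTower.toAlgHom R A A') (IsScalarTower.toAlgHom R B A')
  let := ψ.toRingHom.toAlgebra
  have : IsScalarTower A (A ⊗[R] B) A' := IsScalarTower.of_algebraMap_eq fun a => by
    change algebraMap A A' a = ψ (a ⊗ₜ 1)
    simp [ψ]
  have : Module.Flat (A ⊗[R] B) A' := h
  exact tor_of_flat_ext (T := A ⊗[R] B) C q (CycA.TorRestr.subsingleton_of_flat (A := R) (B := A) C q B)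

end Tor

section Cube

variable {A C A' C' : Type u} [CommRing A] [CommRing C] [CommRing A'] [CommRing C'] [Algebra A C] [Algebra A A']
  [Algebra C C'] [Algebra A' C'] [Algebra A C'] [IsScalarTower A C C'] [IsScalarTower A A' C']

/-- Tor amplitude over the base ring is preserved by tor independent base change. -/
theorem torAmp_cube (hflat : (Algebra.TensorProduct.productMap (IsScalarTower.toAlgHom A C C')
      (IsScalarTower.toAlgHom A A' C')).toRingHom.Flat)
    (htor : ∀ p : ℕ, 1 ≤ p → Subsingleton (DRing.Tor A p C A')) [HasLBaseChange (algebraMap C C')]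
    (K : Dual.D C) (a b : ℤ) (hK : HasTorAmplitudeIn A a b ((restrictD (algebraMap A C)).obj K)) :
    HasTorAmplitudeIn A' a b ((restrictD (algebraMap A' C')).obj ((LBaseChange (algebraMap C C')).obj K)) := by
  let T := C ⊗[A] A'
  let ψ : T →ₐ[A] C' := Algebra.TensorProduct.productMap (IsScalarTower.toAlgHom A C C')
      (IsScalarTower.toAlgHom A A' C')
  let : Algebra A' T := Algebra.TensorProduct.rightAlgebra
  have i1 : HasLBaseChange (algebraMap A A') := LBC.hasLBaseChange _
  have i2 : HasLBaseChange (algebraMap C T) := LBC.hasLBaseChange _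
  have i3 : HasLBaseChange ψ.toRingHom := LBC.hasLBaseChange _
  have hpo : Algebra.IsPushout A C A' T := inferInstance
  have hb := K232.TorBC.isIso_bcm_of_tor A C A' T htor
  have h1 := K227.FlatBC.torAmp_lbc (algebraMap A A') _ a b hK
  have h2 : HasTorAmplitudeIn A' a b ((restrictD (algebraMap A' T)).obj ((LBaseChange (algebraMap C T)).obj K)) :=
    torAmp_of_iso (asIso ((BCMap.bcm A A' C T).app K)) h1
  have h3 := torAmp_restrict_lbc_of_flat (algebraMap A' T) ψ.toRingHom hflat _ a b h2
  have e1 : ψ.toRingHom.comp (algebraMap A' T) = algebraMap A' C' := by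
    ext x
    change ψ (1 ⊗ₜ x) = _
    refine (Algebra.TensorProduct.productMap_apply_tmul _ _ _ _).trans ?_
    rw [map_one, one_mul]
    rfl
  have e2 : algebraMap C C' = ψ.toRingHom.comp (algebraMap C T) := by
    ext x
    change _ = ψ (x ⊗ₜ 1)
    refine Eq.trans ?_ (Algebra.TensorProduct.productMap_apply_tmul _ _ _ _).symm
    rw [map_one, mul_one]
    rfl
  refine torAmp_of_iso ?_ h3
  exact (restrictD _).mapIso ((LBC.lbcComp (algebraMap C T) ψ.toRingHom _ e2).app K) ≪≫
    (LBC.restrictDCongr _ _ e1).app _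

end Cube

end K239.TorCube
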