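import Groth.Agent.Dual3.K478.TorBC
import Groth.Agent.KSix.K240.RelFlat
import Groth.Agent.Dcoh.DerPull2
import Groth.Agent.PerfC.LpullPC
import Groth.Agent.PerfC.PullKFlat
import Groth.Agent.PerfA.AffModel

/-!
# Relative pseudo-coherence and tor independent base change

* `T_lpull_spec`: the test for a closed immersion of affine schemes is stable under tor independent base change;
* `openImm_of_cube`, `exists_preimage_of_cube`: open pieces of fibre products;
* `LocTor`: tor independence in terms of affine charts, near a point of the fibre product;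
* `isPseudoCoherentRel_lpull_tor`: relative pseudo-coherence is stable under tor independent base change.
-/

set_option autoImplicit false
set_option linter.style.haveILetI false
universe u
open CategoryTheory CategoryTheory.Limits AlgebraicGeometry CategoryTheory.Pretriangulated
open Groth.Agent.PerfA Groth.Agent.PerfA.Restrict Groth.Agent.PerfC.PcLocal
open Groth.Agent.PerfC.ClosedImmPc K240.PushTest K240.ChartChange K240.RelData K240.RelChart
open Groth.Agent.PerfB.FlatPull K240.RelBasic K240.RelFlat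
attribute [local instance] HasDerivedCategory.standard

namespace K239.TorPull

open Groth.Agent Groth.Agent.PerfB Groth.Agent.PerfB.BCSch Groth.Agent.PerfB.BCAdapt Groth.Agent.PerfB.BCCx
  Groth.Agent.Dcoh.KFlatAbs Groth.Agent.PerfB.RingKFlat K478.TorBC

section Spec

/-- The test for a closed immersion of affine schemes is stable under tor independent base change. -/
theorem T_lpull_spec {A B A' B' : CommRingCat.{u}} {φ : A ⟶ B} {α : A ⟶ A'} {β : B ⟶ B'} {φ' : A' ⟶ B'}
    (sq : IsPullback (Spec.map β) (Spec.map φ') (Spec.map φ) (Spec.map α)) (h : TorVan α φ)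
    [IsClosedImmersion (Spec.map φ)] [IsClosedImmersion (Spec.map φ')] {m : ℤ} {K : DCoh.D (Spec B)}
    (hK : DCoh.IsQCohD K) (hT : T (Spec.map φ) m K) [DCoh.HasLpull (Spec.map β)] :
    T (Spec.map φ') m ((DCoh.Lpull (Spec.map β)).obj K) := by
  obtain ⟨P, hP, ⟨e⟩⟩ := exists_kfl B K hK
  have i0 : DCoh.HasLpull (Spec.map α) := BCSch.hasLpull _
  let F := (tildeCx B).obj P
  have hF : DCoh.IsKFlat F := BCFlatPush.isKFlat_tilde P hP
  have h1 : IsIso ((lpullCounitQ (Spec.map α)).app ((pushCx (Spec.map φ)).obj F)) :=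
    isIso_lpullCounitQ_push φ α h.res P hP
  have h2 : IsIso ((lpullCounitQ (Spec.map β)).app F) := isIso_lpullCounitQ_app _ _ hF
  -- `φ'_* Lβ^* F`
  let e1 : (pushD (Spec.map φ')).obj ((DCoh.Lpull (Spec.map β)).obj K) ≅
      DerivedCategory.Q.obj ((pushCx (Spec.map φ')).obj ((pullCx (Spec.map β)).obj F)) :=
    (pushD (Spec.map φ')).mapIso ((DCoh.Lpull (Spec.map β)).mapIso e ≪≫
      asIso ((lpullCounitQ (Spec.map β)).app F)) ≪≫
      (Scheme.Modules.pushforward (Spec.map φ')).mapDerivedCategoryFactors.app _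
  -- `Lα^* φ_* F`
  let e2 : (DCoh.Lpull (Spec.map α)).obj ((pushD (Spec.map φ)).obj K) ≅
      DerivedCategory.Q.obj ((pullCx (Spec.map α)).obj ((pushCx (Spec.map φ)).obj F)) :=
    (DCoh.Lpull (Spec.map α)).mapIso ((pushD (Spec.map φ)).mapIso e ≪≫
      (Scheme.Modules.pushforward (Spec.map φ)).mapDerivedCategoryFactors.app F) ≪≫
      asIso ((lpullCounitQ (Spec.map α)).app ((pushCx (Spec.map φ)).obj F))
  let e3 : (pullCx (Spec.map α)).obj ((pushCx (Spec.map φ)).obj F) ≅
      (pushCx (Spec.map φ')).obj ((pullCx (Spec.map β)).obj F) :=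
    (NatIso.mapHomologicalComplex (pullPushIso sq) (ComplexShape.up ℤ)).app F
  exact pc_of_iso (e2 ≪≫ DerivedCategory.Q.mapIso e3 ≪≫ e1.symm)
    (PerfC.LpullPC.isPseudoCoherentD_lpull PerfC.PullKFlat.exists_pullData (Spec.map α) m hT)

end Spec

section Cube

variable {X Y X' Y' : Scheme.{u}} {f : X ⟶ Y} {h : Y' ⟶ Y} {f' : X' ⟶ Y'} {g : X' ⟶ X}
  {X₀ Y₀ X₀' Y₀' : Scheme.{u}} {f₀ : X₀ ⟶ Y₀} {h₀ : Y₀' ⟶ Y₀} {f₀' : X₀' ⟶ Y₀'} {g₀ : X₀' ⟶ X₀}

/-- Open pieces of a fibre product. -/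
lemma openImm_of_cube (sq : IsPullback g f' f h) (sq₀ : IsPullback g₀ f₀' f₀ h₀) (c : X₀' ⟶ X') (a : X₀ ⟶ X)
    (b' : Y₀' ⟶ Y') (b : Y₀ ⟶ Y) (hc1 : c ≫ g = g₀ ≫ a) (hc2 : c ≫ f' = f₀' ≫ b') (ha : f₀ ≫ b = a ≫ f)
    (hb : h₀ ≫ b = b' ≫ h) [IsOpenImmersion a] [IsOpenImmersion b'] [Mono b] : IsOpenImmersion c := by
  have e : c = sq₀.isoPullback.hom ≫ pullback.map f₀ h₀ f h a b' b ha hb ≫ sq.isoPullback.inv := by
    apply sq.hom_ext
    · rw [hc1, Category.assoc, Category.assoc, IsPullback.isoPullback_inv_fst, pullback.lift_fst,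
        IsPullback.isoPullback_hom_fst_assoc]
    · rw [hc2, Category.assoc, Category.assoc, IsPullback.isoPullback_inv_snd, pullback.lift_snd,
        IsPullback.isoPullback_hom_snd_assoc]
  rw [e]
  infer_instance

/-- Points of an open piece of a fibre product. -/
lemma exists_preimage_of_cube (sq : IsPullback g f' f h) (sq₀ : IsPullback g₀ f₀' f₀ h₀) (c : X₀' ⟶ X')
    (a : X₀ ⟶ X) (b' : Y₀' ⟶ Y') (b : Y₀ ⟶ Y) (hc1 : c ≫ g = g₀ ≫ a) (hc2 : c ≫ f' = f₀' ≫ b')
    (ha : f₀ ≫ b = a ≫ f) (hb : h₀ ≫ b = b' ≫ h) [Mono b] (x' : X') (x₀ : X₀) (y₀ : Y₀')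
    (h1 : a x₀ = g x') (h2 : b' y₀ = f' x') : ∃ z : X₀', c z = x' := by
  obtain ⟨n, hn, -⟩ := Scheme.Pullback.exists_preimage_pullback x' x₀ h1.symm
  obtain ⟨n', hn', -⟩ := Scheme.Pullback.exists_preimage_pullback x' y₀ h2.symm
  obtain ⟨w, hw, -⟩ := Scheme.Pullback.exists_preimage_pullback (f := pullback.fst g a) (g := pullback.fst f' b')
    n n' (hn.trans hn'.symm)
  let P := pullback (pullback.fst g a) (pullback.fst f' b')
  let π : P ⟶ X' := pullback.fst _ _ ≫ pullback.fst g a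
  let r : P ⟶ X₀ := pullback.fst _ _ ≫ pullback.snd g a
  let s : P ⟶ Y₀' := pullback.snd _ _ ≫ pullback.snd f' b'
  have hr : r ≫ a = π ≫ g := by
    have k : pullback.snd g a ≫ a = pullback.fst g a ≫ g := pullback.condition.symm
    change (_ ≫ _) ≫ _ = (_ ≫ _) ≫ _
    rw [Category.assoc, k, Category.assoc]
  have hs : s ≫ b' = π ≫ f' := by
    have k : pullback.snd f' b' ≫ b' = pullback.fst f' b' ≫ f' := pullback.condition.symm
    have k' : pullback.snd (pullback.fst g a) (pullback.fst f' b') ≫ pullback.fst f' b' =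
      pullback.fst (pullback.fst g a) (pullback.fst f' b') ≫ pullback.fst g a := pullback.condition.symm
    change (_ ≫ _) ≫ _ = (_ ≫ _) ≫ _
    rw [Category.assoc, k, reassoc_of% k', Category.assoc]
  have hrs : r ≫ f₀ = s ≫ h₀ := by
    have k1 : (r ≫ f₀) ≫ b = π ≫ g ≫ f := by rw [Category.assoc, ha, reassoc_of% hr]
    have k2 : (s ≫ h₀) ≫ b = π ≫ f' ≫ h := by rw [Category.assoc, hb, reassoc_of% hs]
    rw [← cancel_mono b, k1, k2, sq.w]
  refine ⟨sq₀.lift r s hrs w, ?_⟩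
  have e : sq₀.lift r s hrs ≫ c = π := by
    apply sq.hom_ext
    · rw [Category.assoc, hc1, sq₀.lift_fst_assoc, hr]
    · rw [Category.assoc, hc2, sq₀.lift_snd_assoc, hs]
  rw [← Scheme.Hom.comp_apply, e]
  change (pullback.fst _ _ ≫ pullback.fst g a) w = x'
  rw [Scheme.Hom.comp_apply, hw, hn]

end Cube

section Van

/-- Tor independence and enlarging the base by a flat algebra. -/
theorem torVan_push {A A' Q C Q' : CommRingCat.{u}} {ι : A ⟶ Q} {α : A ⟶ A'} {inl : Q ⟶ Q'} {inr : A' ⟶ Q'}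
    (sq : IsPushout ι α inl inr) (hι : ι.hom.Flat) (φ : Q ⟶ C) (h : TorVan α (ι ≫ φ)) : TorVan inl φ := by
  have h' := h.symm
  refine TorVan.symm fun i hi => ?_
  obtain ⟨p, rfl⟩ : ∃ p, i = p + 1 := ⟨i - 1, by omega⟩
  letI : Algebra A Q := ι.hom.toAlgebra
  letI : Algebra A A' := α.hom.toAlgebra
  letI : Algebra Q C := φ.hom.toAlgebra
  letI : Algebra A C := (ι ≫ φ).hom.toAlgebra
  letI : Algebra Q Q' := inl.hom.toAlgebra
  letI : Algebra A' Q' := inr.hom.toAlgebra
  letI : Algebra A Q' := (ι ≫ inl).hom.toAlgebra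
  haveI : IsScalarTower A Q C := IsScalarTower.of_algebraMap_eq fun _ => rfl
  haveI : IsScalarTower A Q Q' := IsScalarTower.of_algebraMap_eq fun _ => rfl
  haveI : IsScalarTower A A' Q' := IsScalarTower.of_algebraMap_eq fun r => congr(($(sq.w)).hom r)
  haveI : Module.Flat A Q := hι
  have hp : Algebra.IsPushout A Q A' Q' := CommRingCat.isPushout_iff_isPushout.1 sq
  have h1 : Subsingleton (DRing.Tor A (p + 1) C A') := h' _ (by omega)
  have h2 := (Models.TorVan2.tor_baseChange_iff (B := A) (C := Q) A' p C).1 h1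
  exact (Models.TorVan2.tor_congr_right (Algebra.IsPushout.equiv A Q A' Q').toLinearEquiv (p + 1) C).1 h2

end Van

section BaseChange

variable {X Y X' Y' : Scheme.{u}} {f : X ⟶ Y} {h : Y' ⟶ Y} {f' : X' ⟶ Y'} {g : X' ⟶ X}

/-- Tor independence of `f` and `h` near a point of `Y'`, in terms of affine charts. -/
def LocTor (f : X ⟶ Y) (h : Y' ⟶ Y) (y' : Y') : Prop :=
  ∃ (A A' : CommRingCat.{u}) (b : Spec A ⟶ Y) (b' : Spec A' ⟶ Y') (α : A ⟶ A') (_ : IsOpenImmersion b)
    (_ : IsOpenImmersion b'), Spec.map α ≫ b = b' ≫ h ∧ (∃ y₀, b' y₀ = y') ∧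
    ∀ (C : CommRingCat.{u}) (a : Spec C ⟶ X) (φ : A ⟶ C) [IsOpenImmersion a],
      Spec.map φ ≫ b = a ≫ f → TorVan α φ

/-- `(Lg^* K)` on a piece. -/
lemma nonempty_restrict_lpull {Z Z' : Scheme.{u}} (c : Z' ⟶ X') [IsOpenImmersion c] (γ : Z' ⟶ Z) (a : Z ⟶ X)
    [IsOpenImmersion a] (e : c ≫ g = γ ≫ a) [DCoh.HasLpull g] [DCoh.HasLpull γ] (K : DCoh.D X) :
    Nonempty ((restrictD c).obj ((DCoh.Lpull g).obj K) ≅ (DCoh.Lpull γ).obj ((restrictD a).obj K)) := by
  have i1 := Dcoh.DerPull.hasLpull c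
  have i2 := Dcoh.DerPull.hasLpull a
  have i3 := Dcoh.DerPull.hasLpull (c ≫ g)
  have i4 := Dcoh.DerPull.hasLpull (γ ≫ a)
  exact ⟨((Dcoh.DerPull.lpullOpenIso c).app _).symm ≪≫ (Dcoh.DerPull.lpullCompIso c g).app K ≪≫
    (Dcoh.DerPull.lpullCongr e).app K ≪≫ (Dcoh.DerPull.lpullCompIso γ a).symm.app K ≪≫
    (DCoh.Lpull γ).mapIso ((Dcoh.DerPull.lpullOpenIso a).app K)⟩

/-- Relative pseudo-coherence is stable under tor independent base change. -/
theorem isPseudoCoherentRel_lpull_tor (sq : IsPullback g f' f h) (ht : ∀ x' : X', LocTor f h (f' x')) {m : ℤ}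
    {K : DCoh.D X} (hq : DCoh.IsQCohD K) (hK : DerSch.IsPseudoCoherentRel f m K) [DCoh.HasLpull g] :
    DerSch.IsPseudoCoherentRel f' m ((DCoh.Lpull g).obj K) := by
  have hf := hK.1
  have hf' : LocallyOfFiniteType f' := MorphismProperty.of_isPullback sq hf
  refine isPseudoCoherentRel_of_data fun x' => ?_
  obtain ⟨A, A', b, b', α, ib, ib', hb, ⟨y₀, hy₀⟩, hC⟩ := ht x'
  -- the affine open of `X`
  have hx : f (g x') ∈ b.opensRange := by
    refine ⟨Spec.map α y₀, ?_⟩
    rw [← Scheme.Hom.comp_apply, hb, Scheme.Hom.comp_apply, hy₀, ← Scheme.Hom.comp_apply, ← sq.w,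
      Scheme.Hom.comp_apply]
  obtain ⟨U, hU, hxU, hUV⟩ := exists_isAffineOpen_mem_and_subset (x := g x') (U := f ⁻¹ᵁ b.opensRange) hx
  let C : CommRingCat.{u} := Γ(X, U)
  let a : Spec C ⟶ X := hU.fromSpec
  have hrange : Set.range (a ≫ f) ⊆ Set.range b := by
    rintro _ ⟨z, rfl⟩
    rw [Scheme.Hom.comp_apply]
    have hz : a z ∈ U := by
      have : a z ∈ Set.range hU.fromSpec := ⟨z, rfl⟩
      rwa [hU.range_fromSpec] at this
    exact hUV hz
  let φs : Spec C ⟶ Spec A := IsOpenImmersion.lift b (a ≫ f) hrange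
  let φ₀ : A ⟶ C := Spec.preimage φs
  have hφ₀ : Spec.map φ₀ ≫ b = a ≫ f := by
    rw [Spec.map_preimage]
    exact IsOpenImmersion.lift_fac _ _ _
  obtain ⟨x₀, hx₀⟩ : ∃ x₀, a x₀ = g x' := by
    have : g x' ∈ Set.range hU.fromSpec := by
      rw [hU.range_fromSpec]
      exact hxU
    exact this
  -- the chart
  have hft : φ₀.hom.FiniteType := by
    have k1 : LocallyOfFiniteType (Spec.map φ₀ ≫ b) := by
      rw [hφ₀]
      infer_instance
    have k2 : LocallyOfFiniteType (Spec.map φ₀) := locallyOfFiniteType_of_comp _ b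
    exact (HasRingHomProperty.Spec_iff (P := @LocallyOfFiniteType)).1 k2
  letI : Algebra A C := φ₀.hom.toAlgebra
  have hft' : Algebra.FiniteType A C := hft
  obtain ⟨n, ψ, hψ⟩ := Algebra.FiniteType.iff_quotient_mvPolynomial''.1 hft'
  let Q : CommRingCat.{u} := CommRingCat.of (MvPolynomial (Fin n) A)
  let ι : A ⟶ Q := CommRingCat.ofHom MvPolynomial.C
  let φ : Q ⟶ C := CommRingCat.ofHom ψ.toRingHom
  have hιφ : ι ≫ φ = φ₀ := by
    ext r
    exact ψ.commutes r
  have hιf : ι.hom.Flat := flat_C n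
  have hιp : ι.hom.FinitePresentation := finitePresentation_C n
  have ifl : Flat (Spec.map ι) := Flat.SpecMap_iff.2 hιf
  have ifp : LocallyOfFinitePresentation (Spec.map ι) := (LocallyOfFinitePresentation.SpecMap_iff _).2 hιp
  have icl : IsClosedImmersion (Spec.map φ) := IsClosedImmersion.spec_of_surjective φ hψ
  have sqQ : IsPushout ι α (pushout.inl ι α) (pushout.inr ι α) := IsPushout.of_hasPushout _ _
  have sqC : IsPushout φ (pushout.inl ι α) (pushout.inl φ (pushout.inl ι α)) (pushout.inr φ (pushout.inl ι α)) :=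
    IsPushout.of_hasPushout _ _
  let β := pushout.inl φ (pushout.inl ι α)
  let φ' := pushout.inr φ (pushout.inl ι α)
  have sq1 : IsPullback (Spec.map β) (Spec.map φ') (Spec.map φ) (Spec.map (pushout.inl ι α)) :=
    isPullback_SpecMap_of_isPushout _ _ _ _ sqC
  have sq2 : IsPullback (Spec.map (pushout.inl ι α)) (Spec.map (pushout.inr ι α)) (Spec.map ι) (Spec.map α) :=
    isPullback_SpecMap_of_isPushout _ _ _ _ sqQ
  have icl' : IsClosedImmersion (Spec.map φ') := MorphismProperty.of_isPullback sq1 icl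
  have ifl' : Flat (Spec.map (pushout.inr ι α)) := MorphismProperty.of_isPullback sq2 ifl
  have ifp' : LocallyOfFinitePresentation (Spec.map (pushout.inr ι α)) := MorphismProperty.of_isPullback sq2 ifp
  have sq0 : IsPullback (Spec.map β) (Spec.map φ' ≫ Spec.map (pushout.inr ι α)) (Spec.map φ ≫ Spec.map ι)
      (Spec.map α) := sq1.paste_vert sq2
  have hb1 : (Spec.map φ ≫ Spec.map ι) ≫ b = a ≫ f := by
    rw [← Spec.map_comp, hιφ, hφ₀]
  let c : Spec (pushout φ (pushout.inl ι α)) ⟶ X' := sq.lift (Spec.map β ≫ a)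
    ((Spec.map φ' ≫ Spec.map (pushout.inr ι α)) ≫ b') (by
      rw [Category.assoc, ← hb1, Category.assoc _ b' h, ← hb]
      have k := congrArg (fun k => k ≫ b) sq0.w
      simpa only [Category.assoc] using k)
  have hc1 : c ≫ g = Spec.map β ≫ a := sq.lift_fst _ _ _
  have hc2 : c ≫ f' = (Spec.map φ' ≫ Spec.map (pushout.inr ι α)) ≫ b' := sq.lift_snd _ _ _
  have ic : IsOpenImmersion c := openImm_of_cube sq sq0 c a b' b hc1 hc2 hb1 hb
  obtain ⟨w, hw⟩ := exists_preimage_of_cube sq sq0 c a b' b hc1 hc2 hb1 hb x' x₀ y₀ hx₀ hy₀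
  let D : Datum f :=
    { W := Spec C, P := Spec Q, j := a, i := Spec.map φ, p := Spec.map ι ≫ b, open_j := inferInstance,
      closed_i := icl, flat_p := inferInstance, fp_p := inferInstance,
      w := by rw [← Category.assoc]; exact hb1 }
  let D' : Datum f' :=
    { W := Spec (pushout φ (pushout.inl ι α)), P := Spec (pushout ι α), j := c, i := Spec.map φ',
      p := Spec.map (pushout.inr ι α) ≫ b', open_j := ic, closed_i := icl', flat_p := inferInstance,
      fp_p := inferInstance, w := by rw [← Category.assoc]; exact hc2.symm }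
  refine ⟨D', w, hw, ?_⟩
  have i5 := Dcoh.DerPull.hasLpull (Spec.map β)
  obtain ⟨e⟩ := nonempty_restrict_lpull c (Spec.map β) a hc1 K
  have h1 : T (Spec.map φ) m ((restrictD a).obj K) := test_of_isPseudoCoherentRel hK D
  have hq' : DCoh.IsQCohD ((restrictD a).obj K) := PerfA.AffModel.isQCohD_restrictD a hq
  have h2 : TorVan (pushout.inl ι α) φ := torVan_push sqQ hιf φ (by
    rw [hιφ]
    exact hC C a φ₀ hφ₀)
  exact T_iso (i := Spec.map φ') e.symm (T_lpull_spec sq1 h2 hq' h1)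

end BaseChange

end K239.TorPull
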